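import Groth.Agent.TFCurvSSLib.SubSuper
import Groth.Agent.PullbackMod.Sections
import Groth.Agent.FormalSysLib.Sections
import Groth.Agent.ProjBundleLib.EpiClosed
import Groth.Agent.SubLib.Basic
import Groth.Agent.ProZeroLib.Split

/-!
# Modules on the normalisation of a curve as modules on the curve
-/

set_option autoImplicit false
set_option backward.isDefEq.respectTransparency false
set_option linter.style.haveILetI false
set_option linter.unusedSectionVars false
set_option maxHeartbeats 1600000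

universe u

open CategoryTheory CategoryTheory.Limits AlgebraicGeometry TopologicalSpace
open Groth.Agent.PullbackMod Groth.Agent.DCohLib
open scoped TensorProduct

noncomputable section

namespace Groth.Agent.TFCurvSSLib

variable {X Y : Scheme.{u}}

theorem mk_one_bijective {R S M : Type*} [CommRing R] [CommRing S] [Algebra R S] [AddCommGroup M] [Module R M]
    (h : Function.Bijective (algebraMap R S)) : Function.Bijective fun m : M => (1 : S) ⊗ₜ[R] m := by
  let e : R ≃ₗ[R] S := LinearEquiv.ofBijective (Algebra.linearMap R S) h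
  have : (fun m : M => (1 : S) ⊗ₜ[R] m) = (TensorProduct.congr e (LinearEquiv.refl R M)) ∘ (TensorProduct.lid R M).symm :=
    funext fun m => by
      simp [e, LinearEquiv.ofBijective_apply]
  rw [this]
  exact (TensorProduct.congr e (LinearEquiv.refl R M)).bijective.comp (TensorProduct.lid R M).symm.bijective

theorem torsionFree_of_mono {M N : X.Modules} (f : M ⟶ N) [Mono f] (h : TorSh.IsTorsionFree N) :
    TorSh.IsTorsionFree M := fun x => by
  haveI := h x
  exact Function.Injective.moduleIsTorsionFree _ ((mono_iff_stalk f).1 inferInstance x) (map_smul (stalkLin f x))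

/-- Direct images along affine morphisms generate. -/
theorem epi_counit_affine (ν : Y ⟶ X) [IsAffineHom ν] (E : Y.Modules) [Coh.IsQCoh E] :
    Epi ((Scheme.Modules.pullbackPushforwardAdjunction ν).counit.app E) := by
  refine (epi_iff_stalk _).2 fun y z => ?_
  obtain ⟨_, ⟨W, hW, rfl⟩, hyW, -⟩ :=
    X.isBasis_affineOpens.exists_subset_of_mem_open (a := ν y) (Set.mem_univ (ν y)) isOpen_univ
  letI := Module.compHom (E.presheaf.stalk y) (Y.presheaf.germ (ν ⁻¹ᵁ W) y hyW).hom
  have hloc := FlatLocus.isLocalizedModule_germL E (hW.preimage ν) y hyW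
  obtain ⟨⟨t, s⟩, hts⟩ := hloc.surj z
  haveI := (hW.preimage ν).isLocalization_stalk ⟨y, hyW⟩
  letI : Algebra Γ(Y, ν ⁻¹ᵁ W) (Y.presheaf.stalk y) := (Y.presheaf.germ (ν ⁻¹ᵁ W) y hyW).hom.toAlgebra
  obtain ⟨u, hu⟩ := IsLocalization.map_units (Y.presheaf.stalk y) s
  let T : Γ((Scheme.Modules.pushforward ν).obj E, W) := t
  refine ⟨(↑u⁻¹ : Y.presheaf.stalk y) •
    pullStalk ν _ y (((Scheme.Modules.pushforward ν).obj E).presheaf.germ W (ν y) hyW T), ?_⟩
  rw [map_smul, pullStalk_germ]
  erw [stalkLin_germ]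
  have htri : ((Scheme.Modules.pullbackPushforwardAdjunction ν).counit.app E).app (ν ⁻¹ᵁ W)
      ((((Scheme.Modules.pullbackPushforwardAdjunction ν).unit.app
        ((Scheme.Modules.pushforward ν).obj E)).app W) T) = t :=
    congr($(congrArg (fun φ : (Scheme.Modules.pushforward ν).obj E ⟶ _ => φ.app W)
      ((Scheme.Modules.pullbackPushforwardAdjunction ν).right_triangle_components E)) T)
  erw [htri]
  have h1 : (u : Y.presheaf.stalk y) • z = E.presheaf.germ (ν ⁻¹ᵁ W) y hyW t := by
    rw [hu]; exact hts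
  erw [← h1]
  rw [smul_smul, Units.inv_mul, one_smul]


/-- At the generic point nothing is added. -/
def integralClosureGenericEquiv [IsIntegral X] (x : X) (hx : x = genericPoint ↥X) :
    X.presheaf.stalk x ≃ₗ[X.presheaf.stalk x] ↥(integralClosure (X.presheaf.stalk x) X.functionField) :=
  LinearEquiv.ofBijective (Algebra.linearMap _ _)
    ⟨fun a b h => IsFractionRing.injective (X.presheaf.stalk x) X.functionField (congrArg Subtype.val h),
      fun z => by
        have hsurj : Function.Surjective (algebraMap (X.presheaf.stalk x) X.functionField) := by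
          subst hx
          exact fun z => ⟨z, congr($(TopCat.Presheaf.stalkSpecializes_refl X.presheaf _) z)⟩
        obtain ⟨a, ha⟩ := hsurj z.1
        exact ⟨a, Subtype.ext ha⟩⟩

variable (ν : Y ⟶ X) [IsFinite ν] [IsIntegral X] [IsIntegral Y] [IsLocallyNoetherian X] [IsLocallyNoetherian Y]
  (hpre : ν.base ⁻¹' {genericPoint ↥X} = {genericPoint ↥Y})
  (hiso : IsIso (ν.stalkMap (genericPoint ↥Y)))

include hiso in
theorem bijective_pullStalk (M : X.Modules) :
    Function.Bijective (pullStalk ν M (genericPoint ↥Y)) := by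
  haveI := hiso
  set y := genericPoint ↥Y
  letI := (ν.stalkMap y).hom.toAlgebra
  have h := mk_one_bijective (R := X.presheaf.stalk (ν y)) (S := Y.presheaf.stalk y) (M := M.presheaf.stalk (ν y))
    (ConcreteCategory.bijective_of_isIso (ν.stalkMap y))
  have : (pullStalk ν M y : _ → _) = (pullStalkEquiv ν y M) ∘ fun m => (1 : Y.presheaf.stalk y) ⊗ₜ m :=
    funext fun m => by simp [pullStalkEquiv_tmul]
  rw [this]
  exact (pullStalkEquiv ν y M).bijective.comp h

theorem eq_zero_of_germ_generic {M : Y.Modules} [Coh.IsQCoh M] (htf : TorSh.IsTorsionFree M) {U : Y.Opens}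
    (hU : genericPoint ↥Y ∈ U) (s : Γ(M, U)) (h : M.presheaf.germ U (genericPoint ↥Y) hU s = 0) : s = 0 := by
  refine TFOneLib.eq_zero_of_maxPt htf s fun z hz hmax => ?_
  obtain rfl : genericPoint ↥Y = z := hmax _ (genericPoint_specializes z)
  exact h

include hiso in
/-- Maps between torsion-free modules are determined by their direct images, and lift. -/
theorem exists_lift_push {E E' : Y.Modules} [Coh.IsQCoh E] [Coh.IsQCoh E'] (htf : TorSh.IsTorsionFree E)
    (htf' : TorSh.IsTorsionFree E')
    (α : (Scheme.Modules.pushforward ν).obj E ⟶ (Scheme.Modules.pushforward ν).obj E') :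
    ∃ ψ : E ⟶ E', (Scheme.Modules.pushforward ν).map ψ = α := by
  let adj := Scheme.Modules.pullbackPushforwardAdjunction ν
  let φ := (adj.homEquiv _ E').symm α
  haveI := epi_counit_affine ν E
  have hk : kernel.ι (adj.counit.app E) ≫ φ = 0 := by
    refine TFOneLib.hom_eq_zero htf' _ fun z hz => ?_
    obtain rfl : genericPoint ↥Y = z := hz _ (genericPoint_specializes z)
    refine LinearMap.ext fun a => ?_
    rw [stalkLin_comp, LinearMap.comp_apply, LinearMap.zero_apply]
    suffices h : stalkLin (kernel.ι (adj.counit.app E)) (genericPoint ↥Y) a = 0 by rw [h, map_zero]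
    obtain ⟨w, hw⟩ := (bijective_pullStalk ν hiso _).2 (stalkLin (kernel.ι (adj.counit.app E)) (genericPoint ↥Y) a)
    have h0 : stalkLin (adj.counit.app E) (genericPoint ↥Y) (pullStalk ν _ (genericPoint ↥Y) w) = 0 := by
      rw [hw, ← LinearMap.comp_apply, ← stalkLin_comp, kernel.condition, TFOneLib.stalkLin_zero,
        LinearMap.zero_apply]
    rw [← hw]
    obtain ⟨U, hU, f, rfl⟩ := TopCat.Presheaf.exists_germ_eq ((Scheme.Modules.pushforward ν).obj E).presheaf w
    rw [pullStalk_germ] at h0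
    erw [stalkLin_germ] at h0
    have htri : (adj.counit.app E).app (ν ⁻¹ᵁ U) ((adj.unit.app ((Scheme.Modules.pushforward ν).obj E)).app U f) = f :=
      congr($(congrArg (fun φ : (Scheme.Modules.pushforward ν).obj E ⟶ _ => φ.app U)
        (adj.right_triangle_components E)) f)
    erw [htri] at h0
    have hf : (f : Γ(E, ν ⁻¹ᵁ U)) = 0 := eq_zero_of_germ_generic htf hU f h0
    rw [show f = 0 from hf, map_zero, map_zero]
  obtain ⟨ψ, hψ⟩ : ∃ ψ, adj.counit.app E ≫ ψ = φ := ⟨Abelian.epiDesc (adj.counit.app E) φ hk, Abelian.comp_epiDesc _ _ _⟩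
  refine ⟨ψ, ?_⟩
  have h := (adj.homEquiv _ E').apply_symm_apply α
  rw [show (adj.homEquiv _ E').symm α = φ from rfl, ← hψ, adj.homEquiv_naturality_right, adj.homEquiv_unit,
    adj.right_triangle_components, Category.id_comp] at h
  exact h

theorem push_faithful {E E' : Y.Modules} [Coh.IsQCoh E] (f g : E ⟶ E')
    (h : (Scheme.Modules.pushforward ν).map f = (Scheme.Modules.pushforward ν).map g) : f = g := by
  haveI := epi_counit_affine ν E
  let adj := Scheme.Modules.pullbackPushforwardAdjunction ν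
  refine (cancel_epi (adj.counit.app E)).1 ?_
  rw [← adj.counit_naturality f, ← adj.counit_naturality g, h]

include hiso in
theorem nonempty_iso_of_push_iso {E E' : Y.Modules} [Coh.IsQCoh E] [Coh.IsQCoh E'] (htf : TorSh.IsTorsionFree E)
    (htf' : TorSh.IsTorsionFree E')
    (α : (Scheme.Modules.pushforward ν).obj E ≅ (Scheme.Modules.pushforward ν).obj E') : Nonempty (E ≅ E') := by
  obtain ⟨f, hf⟩ := exists_lift_push ν hiso htf htf' α.hom
  obtain ⟨g, hg⟩ := exists_lift_push ν hiso htf' htf α.inv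
  exact ⟨⟨f, g, push_faithful ν _ _ (by rw [Functor.map_comp, hf, hg, α.hom_inv_id, CategoryTheory.Functor.map_id]),
    push_faithful ν _ _ (by rw [Functor.map_comp, hf, hg, α.inv_hom_id, CategoryTheory.Functor.map_id])⟩⟩

include hpre hiso in
/-- Functions on the normalisation are integral fractions. -/
theorem exists_fraction {W : X.Opens} (hW : IsAffineOpen W) {x : X} (hx : x ∈ W) (b : Γ(Y, ν ⁻¹ᵁ W)) :
    ∃ (r s : Γ(X, W)) (c : ↥(integralClosure (X.presheaf.stalk x) X.functionField)),
      X.presheaf.germ W x hx s ≠ 0 ∧ ν.app W s * b = ν.app W r ∧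
      algebraMap (X.presheaf.stalk x) _ (X.presheaf.germ W x hx s) * c =
        algebraMap (X.presheaf.stalk x) _ (X.presheaf.germ W x hx r) := by
  haveI := hiso
  set y := genericPoint ↥Y
  have hy : ν y = genericPoint ↥X := hpre.symm.subset rfl
  have hηW : genericPoint ↥X ∈ W := (genericPoint_specializes x).mem_open W.2 hx
  have hyW : y ∈ ν ⁻¹ᵁ W := show ν y ∈ W from hy.symm ▸ hηW
  let c₀ : X.presheaf.stalk (ν y) ⟶ X.functionField := (X.presheaf.stalkCongr (.of_eq hy)).hom
  let g : Γ(Y, ν ⁻¹ᵁ W) →+* X.functionField :=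
    (Y.presheaf.germ (ν ⁻¹ᵁ W) y hyW ≫ inv (ν.stalkMap y) ≫ c₀).hom
  haveI : Nonempty W := ⟨⟨x, hx⟩⟩
  let f : Γ(X, W) →+* X.functionField := (X.germToFunctionField W).hom
  have hg : ∀ a, g (ν.app W a) = f a := fun a => by
    show c₀ (inv (ν.stalkMap y) (Y.presheaf.germ (ν ⁻¹ᵁ W) y hyW (ν.app W a))) = _
    rw [← Scheme.Hom.germ_stalkMap_apply ν W y hyW a]
    rw [← ConcreteCategory.comp_apply (ν.stalkMap y) (inv (ν.stalkMap y)), IsIso.hom_inv_id]
    exact congr($(TopCat.Presheaf.germ_stalkSpecializes X.presheaf (x := genericPoint ↥X) (y := ν y) hyW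
      (specializes_of_eq hy.symm)) a)
  letI : Algebra Γ(X, W) X.functionField := f.toAlgebra
  haveI : IsFractionRing Γ(X, W) X.functionField := functionField_isFractionRing_of_isAffineOpen X W hW
  obtain ⟨⟨r, s⟩, hrs⟩ := IsLocalization.surj (nonZeroDivisors Γ(X, W)) (g b)
  have hs0 : (s : Γ(X, W)) ≠ 0 := nonZeroDivisors.ne_zero s.2
  have hsx : X.presheaf.germ W x hx (s : Γ(X, W)) ≠ 0 := fun h =>
    hs0 (AlgebraicGeometry.germ_injective_of_isIntegral X x hx (h.trans (map_zero _).symm))
  have hfx : ∀ a, algebraMap (X.presheaf.stalk x) X.functionField (X.presheaf.germ W x hx a) = f a := fun a =>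
    congr($(TopCat.Presheaf.germ_stalkSpecializes X.presheaf (x := genericPoint ↥X) (y := x) hx
      (genericPoint_specializes x)) a)
  have hint : IsIntegral (X.presheaf.stalk x) (g b) := by
    obtain ⟨p, hp, hp0⟩ : (ν.app W).hom.IsIntegralElem b :=
      (IsFinite.finite_app (f := ν) W hW).to_isIntegral b
    refine ⟨p.map (X.presheaf.germ W x hx).hom, hp.map _, ?_⟩
    rw [Polynomial.eval₂_map]
    have h : p.eval₂ (g.comp (ν.app W).hom) (g b) = 0 := by
      rw [← Polynomial.hom_eval₂, hp0, map_zero]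
    have e : (algebraMap (X.presheaf.stalk x) X.functionField).comp (X.presheaf.germ W x hx).hom =
        g.comp (ν.app W).hom := RingHom.ext fun a => (hfx a).trans (hg a).symm
    rw [e]
    exact h
  refine ⟨r, s, ⟨g b, hint⟩, hsx, ?_, Subtype.ext ?_⟩
  · refine AlgebraicGeometry.germ_injective_of_isIntegral Y y hyW
      ((ConcreteCategory.bijective_of_isIso (inv (ν.stalkMap y) ≫ c₀)).1 ?_)
    show g (ν.app W s * b) = g (ν.app W r)
    rw [map_mul, hg, hg, mul_comm]
    exact hrs
  · show algebraMap (X.presheaf.stalk x) X.functionField _ * g b = algebraMap (X.presheaf.stalk x) X.functionField _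
    rw [hfx, hfx, mul_comm]
    exact hrs

omit [IsFinite ν] [IsLocallyNoetherian X] [IsLocallyNoetherian Y] [IsIntegral X] in
theorem injective_pullStalk_unit (G : X.Modules) (hb : Function.Injective (pullStalk ν G (genericPoint ↥Y))) :
    Function.Injective (stalkLin ((Scheme.Modules.pullbackPushforwardAdjunction ν).unit.app G) (ν (genericPoint ↥Y))) := by
  refine (injective_iff_map_eq_zero _).2 fun m hm => ?_
  obtain ⟨U, hU, s, rfl⟩ := TopCat.Presheaf.exists_germ_eq G.presheaf m
  erw [stalkLin_germ] at hm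
  let N := (Scheme.Modules.pushforward ν).obj ((Scheme.Modules.pullback ν).obj G)
  obtain ⟨V, hV, i₁, i₂, hV'⟩ := TopCat.Presheaf.germ_eq N.presheaf (ν (genericPoint ↥Y)) hU hU _ (0 : Γ(N, U))
    (hm.trans (map_zero _).symm)
  rw [map_zero] at hV'
  refine hb ?_
  rw [map_zero, pullStalk_germ]
  refine (TopCat.Presheaf.germ_res_apply ((Scheme.Modules.pullback ν).obj G).presheaf
    (homOfLE (ν.preimage_mono i₁.le)) (genericPoint ↥Y) hV _).symm.trans ?_
  exact (congrArg (((Scheme.Modules.pullback ν).obj G).presheaf.germ (ν ⁻¹ᵁ V) (genericPoint ↥Y) hV) hV').trans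
    (map_zero _)

include hpre hiso in
/-- A generated module over the integral closures is the direct image of the module it generates. -/
theorem surjective_adj_of_integral {F : X.Modules} [Coh.IsQCoh F] {E : Y.Modules} [Coh.IsQCoh E]
    (htfE : TorSh.IsTorsionFree ((Scheme.Modules.pushforward ν).obj E)) {n : ℕ} {x : X}
    (e : F.presheaf.stalk x ≃ₗ[X.presheaf.stalk x]
      (Fin n → ↥(integralClosure (X.presheaf.stalk x) X.functionField)))
    (φ : (Scheme.Modules.pullback ν).obj F ⟶ E) [Epi φ] :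
    Function.Surjective (stalkLin (((Scheme.Modules.pullbackPushforwardAdjunction ν).homEquiv F E) φ) x) := by
  let u := ((Scheme.Modules.pullbackPushforwardAdjunction ν).homEquiv F E) φ
  let N := (Scheme.Modules.pushforward ν).obj E
  haveI : Coh.IsQCoh ((Scheme.Modules.pullback ν).obj F) := isQCoh_pullback ν F
  intro z
  obtain ⟨W₀, hx₀, t₀, rfl⟩ := TopCat.Presheaf.exists_germ_eq N.presheaf z
  obtain ⟨_, ⟨W, hW, rfl⟩, hx, hWle⟩ := X.isBasis_affineOpens.exists_subset_of_mem_open (a := x) hx₀ W₀.2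
  rw [← TopCat.Presheaf.germ_res_apply N.presheaf (homOfLE hWle) x hx t₀]
  suffices key : ∀ t : Γ(E, ν ⁻¹ᵁ W), ∃ a, stalkLin u x a = N.presheaf.germ W x hx t from key _
  intro t
  obtain ⟨p, rfl⟩ := ProjBundleLib.surjective_app_of_epi inferInstance inferInstance φ (hW.preimage ν) t
  let P : Γ((Scheme.Modules.pullback ν).obj F, ν ⁻¹ᵁ W) → Prop := fun q =>
    ∃ m, stalkLin u x m = N.presheaf.germ W x hx (φ.app (ν ⁻¹ᵁ W) q)
  show P p
  letI : Algebra Γ(X, W) Γ(Y, ν ⁻¹ᵁ W) := (ν.appLE W (ν ⁻¹ᵁ W) le_rfl).hom.toAlgebra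
  letI := Module.compHom Γ((Scheme.Modules.pullback ν).obj F, ν ⁻¹ᵁ W) (ν.appLE W (ν ⁻¹ᵁ W) le_rfl).hom
  haveI : IsScalarTower Γ(X, W) Γ(Y, ν ⁻¹ᵁ W) Γ((Scheme.Modules.pullback ν).obj F, ν ⁻¹ᵁ W) :=
    .of_algebraMap_smul fun _ _ => rfl
  refine (isBaseChange_pullMapL ν F hW (hW.preimage ν) le_rfl).inductionOn p P ⟨0, ?_⟩ (fun s => ?_)
    (fun b q hq => ?_) (fun a b ha hb => ?_)
  · rw [map_zero, map_zero]
    exact (map_zero (N.presheaf.germ W x hx).hom).symm
  · refine ⟨F.presheaf.germ W x hx s, ?_⟩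
    erw [stalkLin_germ]
    refine congrArg (N.presheaf.germ W x hx) ?_
    show (((Scheme.Modules.pullbackPushforwardAdjunction ν).homEquiv F E) φ).app W s = _
    rw [Adjunction.homEquiv_unit]
    show φ.app (ν ⁻¹ᵁ W) _ = φ.app (ν ⁻¹ᵁ W) (((Scheme.Modules.pullback ν).obj F).presheaf.map
      (homOfLE (le_refl (ν ⁻¹ᵁ W))).op ((((Scheme.Modules.pullbackPushforwardAdjunction ν).unit.app F).app W) s))
    rw [show (homOfLE (le_refl (ν ⁻¹ᵁ W))).op = 𝟙 _ from rfl, CategoryTheory.Functor.map_id]
    rfl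
  · obtain ⟨m, hm⟩ := hq
    obtain ⟨r, s, c, hs0, hsb, hsc⟩ := exists_fraction ν hpre hiso hW hx b
    let m' := e.symm fun i => c * e m i
    have hm' : X.presheaf.germ W x hx s • m' = X.presheaf.germ W x hx r • m := e.injective (funext fun i => by
      rw [map_smul, map_smul, Pi.smul_apply, Pi.smul_apply, LinearEquiv.apply_symm_apply, Algebra.smul_def,
        Algebra.smul_def, ← mul_assoc, hsc])
    refine ⟨m', ?_⟩
    haveI := htfE x
    refine Module.IsTorsionFree.isSMulRegular (M := N.presheaf.stalk x) (IsRegular.of_ne_zero hs0) ?_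
    show X.presheaf.germ W x hx s • _ = X.presheaf.germ W x hx s • _
    rw [← map_smul, hm', map_smul, hm, ← SubLib.germ_smul', ← SubLib.germ_smul']
    refine congrArg (N.presheaf.germ W x hx) ?_
    show ν.app W r • φ.app (ν ⁻¹ᵁ W) q = ν.app W s • φ.app (ν ⁻¹ᵁ W) (b • q)
    rw [φ.app_smul, smul_smul, hsb]
  · obtain ⟨p₁, h₁⟩ := ha
    obtain ⟨p₂, h₂⟩ := hb
    exact ⟨p₁ + p₂, by rw [map_add, map_add, h₁, h₂]; exact (map_add (N.presheaf.germ W x hx).hom _ _).symm⟩

omit [IsFinite ν] [IsLocallyNoetherian X] [IsLocallyNoetherian Y] [IsIntegral Y] in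
theorem isTorsionFree_of_equiv {F : X.Modules} {n : ℕ}
    (h : ∀ x : X, Nonempty (F.presheaf.stalk x ≃ₗ[X.presheaf.stalk x]
      (Fin n → ↥(integralClosure (X.presheaf.stalk x) X.functionField)))) : TorSh.IsTorsionFree F := fun x => by
  obtain ⟨e⟩ := h x
  haveI : Module.IsTorsionFree (X.presheaf.stalk x) ↥(integralClosure (X.presheaf.stalk x) X.functionField) :=
    Function.Injective.moduleIsTorsionFree _ Subtype.val_injective fun _ _ => rfl
  exact Function.Injective.moduleIsTorsionFree _ e.injective e.map_smul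

variable (k : Type u) [Field k] [X.Over (Spec (CommRingCat.of k))] [IsProper (X ↘ Spec (CommRingCat.of k))]
  [IsDominant ν]

include k hpre hiso in
/-- Modules with stalks powers of the integral closures are direct images from the normalisation. -/
theorem exists_push_iso [AlgebraicGeometry.IsNoetherian X] [AlgebraicGeometry.IsNoetherian Y]
    (hdim : topologicalKrullDim X = 1) (hdimY : topologicalKrullDim Y ≤ 1)
    (hreg : ∀ y : Y, IsRegularLocalRing (Y.presheaf.stalk y)) {F : X.Modules} (hF : Coh.IsCoh F) {n : ℕ}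
    (hst : ∀ x : X, Nonempty (F.presheaf.stalk x ≃ₗ[X.presheaf.stalk x]
      (Fin n → ↥(integralClosure (X.presheaf.stalk x) X.functionField)))) :
    ∃ E : Y.Modules, FlatMod.IsFinLocFreeOfRank n E ∧ Nonempty ((Scheme.Modules.pushforward ν).obj E ≅ F) := by
  haveI := hF.1
  let η := genericPoint ↥X
  let y := genericPoint ↥Y
  have hy : ν y = η := hpre.symm.subset rfl
  have htf := isTorsionFree_of_equiv hst
  have hn : Module.finrank (X.presheaf.stalk η) (F.presheaf.stalk η) = n := by
    obtain ⟨e⟩ := hst η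
    rw [(e.trans (LinearEquiv.piCongrRight fun _ => (integralClosureGenericEquiv η rfl).symm)).finrank_eq]
    simp
  obtain ⟨-, G, j, hG, hj, hjs⟩ := exists_sub_and_super k hdim hF htf hn
  haveI := hj
  have hGc : Coh.IsCoh G := CurveLib.isCoh_of_isFinLocFree fun x => let ⟨U, h⟩ := hG x; ⟨U, n, h⟩
  haveI := hGc.1
  let adj := Scheme.Modules.pullbackPushforwardAdjunction ν
  have hfree : ∀ z : Y, FreeAt n ((Scheme.Modules.pullback ν).obj G) z := fun z => by
    obtain ⟨U, hU, ⟨i⟩⟩ := hG (ν z)
    exact freeAt_pullback G ν z (freeAt_of_restrict_iso G i hU)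
  have htfG : TorSh.IsTorsionFree ((Scheme.Modules.pullback ν).obj G) := fun z => by
    obtain ⟨e⟩ := hfree z
    exact Function.Injective.moduleIsTorsionFree _ e.injective e.map_smul
  let J := (Scheme.Modules.pullback ν).map j
  let E := Abelian.image J
  let φ := Abelian.factorThruImage J
  let ι := Abelian.image.ι J
  have hpFc : Coh.IsCoh ((Scheme.Modules.pullback ν).obj F) := isCoh_pullback ν F hF
  have hpGc : Coh.IsCoh ((Scheme.Modules.pullback ν).obj G) := isCoh_pullback ν G hGc
  have hEc : Coh.IsCoh E :=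
    (QCohLib.isCoh_kernel_cokernel _ hpGc (QCohLib.isCoh_kernel_cokernel J hpFc hpGc).2).1
  haveI := hEc.1
  have htfE : TorSh.IsTorsionFree E := torsionFree_of_mono ι htfG
  let u := adj.homEquiv F E φ
  have hu : u ≫ (Scheme.Modules.pushforward ν).map ι = j ≫ adj.unit.app G := by
    rw [← adj.homEquiv_naturality_right, Abelian.image.fac, adj.homEquiv_unit]
    exact (adj.unit.naturality j).symm
  haveI : Mono (adj.unit.app G) := TFOneLib.mono_of_maxPt (isTorsionFree_flf hG) _ fun z hz => by
    obtain rfl : η = z := hz _ (genericPoint_specializes z)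
    exact hy ▸ injective_pullStalk_unit ν G (bijective_pullStalk ν hiso G).1
  haveI : Mono u := mono_of_mono_fac hu
  have htfP : TorSh.IsTorsionFree ((Scheme.Modules.pushforward ν).obj E) := S2288.result ν E htfE
  haveI : IsIso u := (isIso_iff_stalk u).2 fun x =>
    ⟨(mono_iff_stalk u).1 inferInstance x,
      surjective_adj_of_integral ν hpre hiso htfP (hst x).some φ⟩
  refine ⟨E, fun z => ?_, ⟨(asIso u).symm⟩⟩
  refine rank_chart hdimY hEc htfE ?_ (hreg z)
  have hι : Function.Surjective (stalkLin ι y) := fun w => by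
    obtain ⟨m, rfl⟩ := (bijective_pullStalk ν hiso G).2 w
    haveI : Subsingleton ((cokernel j).presheaf.stalk (ν y)) := hjs _ (by
      by_contra h
      exact ((finite_nonregular k hdim).2 _ h).2 hy)
    obtain ⟨m, rfl⟩ := ProZeroLib.surjective_of_subsingleton_cokernel j (x := ν y) m
    exact ⟨stalkLin φ y (pullStalk ν F y m), by
      rw [← LinearMap.comp_apply, ← stalkLin_comp, Abelian.image.fac, pullStalk_natural]⟩
  obtain ⟨e⟩ := hfree y
  rw [((LinearEquiv.ofBijective (stalkLin ι y) ⟨(mono_iff_stalk ι).1 inferInstance y, hι⟩).trans e).finrank_eq]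
  simp

end Groth.Agent.TFCurvSSLib
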