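import Groth.Agent.TFCurvSSLib.Numeric
import Groth.Agent.DecShCurveLib.Basic
import Groth.Agent.IntLib.Push
import Groth.Agent.NakaiLib.Push
import Groth.Agent.NormUPLib.Char
import Groth.Agent.EtAlgEasy.PrinPartPush
import Groth.Agent.PullbackMod.Hom
import Groth.Agent.DCohLib.PullKFlat
import Groth.Agent.PullbackMod.LimFree
import Groth.Agent.PullbackMod.Props
import Groth.Agent.AmpleLib.Pullback
import Groth.Agent.FlatDim.Trdeg
import Groth.Agent.FinBirLib.Genus
import Groth.Agent.S1585
import Groth.Agent.S2288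

/-!
# Semistability of direct images along finite birational maps of curves
-/

set_option autoImplicit false
set_option backward.isDefEq.respectTransparency false
set_option linter.style.haveILetI false
set_option linter.unusedSectionVars false
set_option maxHeartbeats 1600000

universe u

open CategoryTheory CategoryTheory.Limits AlgebraicGeometry TopologicalSpace
open Groth.Agent.PullbackMod Groth.Agent.DCohLib

noncomputable section

namespace Groth.Agent.TFCurvSSLib

theorem isTorsionFree_flf {X : Scheme.{u}} [IsIntegral X] [IsLocallyNoetherian X] {n : ℕ} {E : X.Modules}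
    (hE : FlatMod.IsFinLocFreeOfRank n E) : TorSh.IsTorsionFree E := fun x => by
  haveI := (CurveLib.isCoh_of_isFinLocFree (fun x => let ⟨U, h⟩ := hE x; ⟨U, n, h⟩)).1
  obtain ⟨U, hxU, ⟨i⟩⟩ := hE x
  obtain ⟨e⟩ := freeAt_of_restrict_iso E i hxU
  exact Function.Injective.moduleIsTorsionFree _ e.injective e.map_smul

theorem not_isOpen_singleton {k : Type u} [Field k] {X : Scheme.{u}} (q : X ⟶ Spec (CommRingCat.of k))
    [LocallyOfFiniteType q] [IsIntegral X] (hdim : topologicalKrullDim X = 1) (x : X) :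
    ¬ IsOpen ({x} : Set X) := fun hx => by
  haveI : JacobsonSpace X := LocallyOfFiniteType.jacobsonSpace q
  have hη : genericPoint X = x := (genericPoint_spec X).mem_open_set_iff hx |>.2 (by simp)
  obtain ⟨y, hy, hyc⟩ := (nonempty_inter_closedPoints (Set.singleton_nonempty x) hx.isLocallyClosed)
  rw [Set.mem_singleton_iff] at hy
  subst y
  have huniv : (Set.univ : Set X) = {x} := by
    rw [← (genericPoint_spec X).def, hη]
    exact (show IsClosed ({x} : Set X) from hyc).closure_eq
  haveI : Subsingleton X := ⟨fun a b => by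
    have ha : a ∈ ({x} : Set X) := huniv ▸ Set.mem_univ a
    have hb : b ∈ ({x} : Set X) := huniv ▸ Set.mem_univ b
    exact ha.trans hb.symm⟩
  have := topologicalKrullDim_zero_of_discreteTopology X
  rw [hdim] at this
  exact absurd this (by decide)

theorem mult_eq_zero_of_generic (k : Type u) [Field k] {X : Scheme.{u}} [X.Over (Spec (CommRingCat.of k))]
    [IsProper (X ↘ Spec (CommRingCat.of k))] [IsIntegral X] (hdim : topologicalKrullDim X = 1) {L : X.Modules}
    (hL : CohB1.IsAmple L) {M : X.Modules} (hM : Coh.IsCoh M)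
    (h : Subsingleton (M.presheaf.stalk (genericPoint ↥X))) : DecSh.mult k X L M = 0 := by
  haveI := EulerIneqLib.isNoetherian_proper (X := X) k
  obtain ⟨P, hP, hα, -⟩ := DecShCurveLib.mult_eq_alpha k hdim hL hM
  have hcl := DevLib.isClosed_support hM
  let U : X.Opens := ⟨(CohB1.support M)ᶜ, hcl.isOpen_compl⟩
  have hU : genericPoint ↥X ∈ U := fun hx => hx h
  have hle : topologicalKrullDim (CohB1.support M) ≤ 0 := by
    have := FinBirLib.dim_compl hdim.le U (U.2.dense ⟨_, hU⟩)
    rwa [show ((U : Set X)ᶜ) = CohB1.support M from compl_compl _] at this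
  have := ShStabLib.alpha_eq_zero k hL hM (d := 1) (lt_of_le_of_lt hle (by exact_mod_cast Nat.one_pos)) hP
  rw [← hα] at this
  exact_mod_cast this

variable (k : Type u) [Field k] {X Y : Scheme.{u}} [X.Over (Spec (CommRingCat.of k))]
  [IsProper (X ↘ Spec (CommRingCat.of k))] [Y.Over (Spec (CommRingCat.of k))]
  [IsProper (Y ↘ Spec (CommRingCat.of k))] (ν : Y ⟶ X) [IsFinite ν]
  (hν : ν ≫ (X ↘ Spec (CommRingCat.of k)) = Y ↘ Spec (CommRingCat.of k))
  {L : X.Modules}

include hν in
theorem euler_mult_push (hL : PicF.IsInvertible L) {G : Y.Modules} (hG : Coh.IsCoh G) :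
    Curv2.euler k X ((Scheme.Modules.pushforward ν).obj G) = Curv2.euler k Y G ∧
      DecSh.mult k X L ((Scheme.Modules.pushforward ν).obj G) =
        DecSh.mult k Y ((Scheme.Modules.pullback ν).obj L) G := by
  haveI := EulerIneqLib.isNoetherian_proper (X := X) k
  haveI := EulerIneqLib.isNoetherian_proper (X := Y) k
  haveI := hG.1
  have h1 := IntLib.euler_push k ν hν G
  obtain ⟨p⟩ := Nakai.nonempty_proj ν G (CurveLib.isFinLocFree_of_isInvertible hL)
  haveI : Coh.IsQCoh (CohB1.tensorMod ((Scheme.Modules.pullback ν).obj L) G) :=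
    (CurveLib.isCoh_tmod (CurveLib.isCoh_of_isInvertible (AmpleLib.isInvertible_pullback ν hL)) hG).1
  refine ⟨h1, ?_⟩
  rw [DecSh.mult, DecSh.mult, h1, CurveLib.euler_iso (K := k) (AmpleLib.comm _ L ≪≫ p), IntLib.euler_push k ν hν,
    CurveLib.euler_iso (K := k) (AmpleLib.comm _ G)]

variable [IsIntegral X] [IsIntegral Y] [IsDominant ν]
  (hpre : ν.base ⁻¹' {genericPoint ↥X} = {genericPoint ↥Y})
  (hiso : IsIso (ν.stalkMap (genericPoint ↥Y)))

include hpre in
theorem map_generic : ν.base (genericPoint ↥Y) = genericPoint ↥X :=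
  hpre.symm.subset rfl

include hpre hν hiso in
theorem dim_eq : topologicalKrullDim Y = topologicalKrullDim X := by
  obtain ⟨s, hs, hs'⟩ := FlatDim.topologicalKrullDim_closure k (X ↘ Spec (CommRingCat.of k)) (genericPoint ↥X)
  obtain ⟨t, ht, ht'⟩ := FlatDim.topologicalKrullDim_closure k (Y ↘ Spec (CommRingCat.of k)) (genericPoint ↥Y)
  have h0 : DimFormulaLib.resTrdegAt ν (genericPoint ↥Y) = 0 := by
    letI : Algebra (X.residueField (ν (genericPoint ↥Y))) (Y.residueField (genericPoint ↥Y)) :=
      (ν.residueFieldMap (genericPoint ↥Y)).hom.toAlgebra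
    have hsur : Function.Surjective
        (algebraMap (X.residueField (ν (genericPoint ↥Y))) (Y.residueField (genericPoint ↥Y))) := fun z => by
      obtain ⟨a, rfl⟩ := IsLocalRing.residue_surjective z
      obtain ⟨b, hb⟩ := (ConcreteCategory.bijective_of_isIso (ν.stalkMap (genericPoint ↥Y))).2 a
      exact ⟨IsLocalRing.residue _ b, (congrArg (fun φ => φ b) (Scheme.residue_residueFieldMap ν _)).trans
        (congrArg (Y.residue _) hb)⟩
    haveI : Algebra.IsAlgebraic (X.residueField (ν (genericPoint ↥Y))) (Y.residueField (genericPoint ↥Y)) := ⟨fun z => by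
      obtain ⟨a, rfl⟩ := hsur z
      exact isAlgebraic_algebraMap a⟩
    exact trdeg_eq_zero
  have h := FlatDim.resTrdegAt_congr hν (genericPoint ↥Y)
  rw [FlatDim.resTrdegAt_comp, h0, add_zero, FlatDim.resTrdegAt_point _ (map_generic ν hpre), hs, ht] at h
  rw [genericPoint_spec X, (Homeomorph.Set.univ X).isHomeomorph.topologicalKrullDim_eq] at hs'
  rw [genericPoint_spec Y, (Homeomorph.Set.univ Y).isHomeomorph.topologicalKrullDim_eq] at ht'
  rw [hs', ht', show s = t by exact_mod_cast h]

include hpre hiso in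
/-- Modules agree with the submodule they generate at the generic point. -/
theorem surjective_stalk_adj {F : X.Modules} {G : Y.Modules} (φ : (Scheme.Modules.pullback ν).obj F ⟶ G) [Epi φ] :
    Function.Surjective (stalkLin (((Scheme.Modules.pullbackPushforwardAdjunction ν).homEquiv F G) φ)
      (genericPoint ↥X)) := by
  set y := genericPoint ↥Y
  have hy : ν y = genericPoint ↥X := map_generic ν hpre
  intro s
  obtain ⟨W, hW, t, rfl⟩ := TopCat.Presheaf.exists_germ_eq ((Scheme.Modules.pushforward ν).obj G).presheaf s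
  have hyW : y ∈ ν ⁻¹ᵁ W := show ν y ∈ W from hy.symm ▸ hW
  haveI := hiso
  obtain ⟨z, hz⟩ := (epi_iff_stalk φ).1 inferInstance y (G.presheaf.germ (ν ⁻¹ᵁ W) y hyW t)
  obtain ⟨w, rfl⟩ : ∃ w, pullStalk ν F y w = z := by
    letI := (ν.stalkMap y).hom.toAlgebra
    obtain ⟨q, rfl⟩ := (pullStalkEquiv ν y F).surjective z
    clear hz
    induction q with
    | zero => exact ⟨0, by simp⟩
    | add p q hp hq =>
      obtain ⟨a, ha⟩ := hp
      obtain ⟨b, hb⟩ := hq
      exact ⟨a + b, by rw [map_add, map_add, ha, hb]⟩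
    | tmul b m =>
      obtain ⟨a, rfl⟩ := (ConcreteCategory.bijective_of_isIso (ν.stalkMap y)).2 b
      exact ⟨a • m, by rw [pullStalk_smul, pullStalkEquiv_tmul]⟩
  obtain ⟨U, hU, f, rfl⟩ := TopCat.Presheaf.exists_germ_eq F.presheaf w
  erw [pullStalk_germ, stalkLin_germ] at hz
  obtain ⟨V, hV, i₁, i₂, hV'⟩ := TopCat.Presheaf.germ_eq _ y _ _ _ _ hz
  have hC : IsClosed (ν.base '' (V : Set Y)ᶜ) := ν.isClosedMap _ V.2.isClosed_compl
  let W₀ : X.Opens := ⟨(ν.base '' (V : Set Y)ᶜ)ᶜ, hC.isOpen_compl⟩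
  have hW₀ : genericPoint ↥X ∈ W₀ := by
    rintro ⟨v, hv, hvx⟩
    have : v ∈ ν.base ⁻¹' {genericPoint ↥X} := hvx
    rw [hpre, Set.mem_singleton_iff] at this
    exact hv (this ▸ hV)
  let W₁ : X.Opens := W₀ ⊓ W ⊓ U
  have hsub : ν ⁻¹ᵁ W₁ ≤ V := fun v hv => by
    by_contra hvV
    exact hv.1.1 ⟨v, hvV, rfl⟩
  refine ⟨F.presheaf.germ U (genericPoint ↥X) (hy ▸ hU) f, ?_⟩
  erw [stalkLin_germ]
  refine (TopCat.Presheaf.germ_ext _ W₁ ⟨⟨hW₀, hW⟩, hy ▸ hU⟩ (homOfLE inf_le_right)
    (homOfLE (inf_le_left.trans inf_le_right)) ?_)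
  rw [Adjunction.homEquiv_unit]
  have h := congrArg (G.presheaf.map (homOfLE hsub).op) hV'
  have hres : ∀ {U' : Y.Opens} (i : V ⟶ U') (i' : ν ⁻¹ᵁ W₁ ⟶ U') (x : Γ(G, U')),
      G.presheaf.map (homOfLE hsub).op (G.presheaf.map i.op x) = G.presheaf.map i'.op x := fun i i' x => by
    rw [← ConcreteCategory.comp_apply, ← Functor.map_comp, ← op_comp]
    exact congrArg (fun j : ν ⁻¹ᵁ W₁ ⟶ _ => G.presheaf.map j.op x) (Subsingleton.elim _ _)
  exact (hres i₁ (homOfLE fun v hv => hv.2) _).symm.trans (h.trans (hres i₂ (homOfLE fun v hv => hv.1.2) _))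

variable (hdim : topologicalKrullDim X = 1) (hL : CohB1.IsAmple L)

include hν hpre hiso hdim hL in
/-- Semistability of a direct image, in numbers. -/
theorem ssNum_push_iff {r : ℤ → ℤ → Prop}
    (hr : ∀ {a b c : ℤ}, a ≤ b → r b c → r a c)
    (hr' : ∀ {α a b : ℤ}, 1 ≤ α → a < b → r (α * a) (α * b))
    {E : Y.Modules} (hE : Coh.IsCoh E) (htf : TorSh.IsTorsionFree E) :
    SSNum k L ((Scheme.Modules.pushforward ν).obj E) r ↔
      SSNum k ((Scheme.Modules.pullback ν).obj L) E r := by
  haveI := EulerIneqLib.isNoetherian_proper (X := X) k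
  haveI := EulerIneqLib.isNoetherian_proper (X := Y) k
  have hdY : topologicalKrullDim Y = 1 := (dim_eq k ν hν hpre hiso).trans hdim
  have hLY : CohB1.IsAmple ((Scheme.Modules.pullback ν).obj L) := AmpleLib.isAmple_pullback ν hL
  have hcoh : ∀ {G : Y.Modules}, Coh.IsCoh G → Coh.IsCoh ((Scheme.Modules.pushforward ν).obj G) := fun hG =>
    EtAlgEasy.PrinPartPush.isCoh_pushforward_finite ν hG
  have hpE : ShStab.IsPure Y E 1 := DecShCurveLib.isPure_of_torsionFree hdY
    (not_isOpen_singleton (Y ↘ Spec (CommRingCat.of k)) hdY) hE htf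
  constructor
  · intro h G ι hι hG h0 hni
    haveI := hι
    haveI : Mono ((Scheme.Modules.pushforward ν).map ι) := inferInstance
    obtain ⟨e1, m1⟩ := euler_mult_push k ν hν hL.1 hG
    obtain ⟨e2, m2⟩ := euler_mult_push k ν hν hL.1 hE
    have hb := DecShCurveLib.mult_bounds k hdY hLY hE hpE ι hG h0
    have := h _ ((Scheme.Modules.pushforward ν).map ι) inferInstance (hcoh hG)
      (fun hz => by
        have := CurveBddLib.mult_isZero (k := k) (L := L) hz
        omega)
      (fun hi => by
        haveI := hi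
        have ha := DecShCurveLib.mult_iso (k := k) (L := L) (asIso ((Scheme.Modules.pushforward ν).map ι))
        have hb := CurveLib.euler_iso (K := k) (asIso ((Scheme.Modules.pushforward ν).map ι))
        rw [m1, m2] at ha
        rw [e1, e2] at hb
        exact absurd hb (euler_lt_of_mult_eq k hdY hLY ι hG hE hni ha).ne)
    rwa [e1, e2, m1, m2] at this
  · intro h F ι hι hF h0 hni
    haveI := hι
    let adj := Scheme.Modules.pullbackPushforwardAdjunction ν
    let ψ : (Scheme.Modules.pullback ν).obj F ⟶ E := (adj.homEquiv F E).symm ι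
    let G := Limits.image ψ
    let j : F ⟶ (Scheme.Modules.pushforward ν).obj G := adj.homEquiv F G (factorThruImage ψ)
    have hj : j ≫ (Scheme.Modules.pushforward ν).map (Limits.image.ι ψ) = ι := by
      show adj.homEquiv F G (factorThruImage ψ) ≫ _ = ι
      rw [← Adjunction.homEquiv_naturality_right, Limits.image.fac]
      exact (adj.homEquiv F E).apply_symm_apply ι
    haveI : Mono j := mono_of_mono_fac hj
    haveI : Epi (factorThruImage ψ) := inferInstance
    have hG : Coh.IsCoh G := ShStabLib.isCoh_of_iso (Abelian.imageIsoImage ψ) (ShStabLib.isCoh_image' ψ (PullbackMod.isCoh_pullback ν F hF) hE)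
    obtain ⟨hQ, hm, he⟩ := CurveBddLib.coker_facts k hdim hL j hF (hcoh hG)
    have hQ0 : DecSh.mult k X L (cokernel j) = 0 := by
      refine mult_eq_zero_of_generic k hdim hL hQ ?_
      refine ⟨fun a b => ?_⟩
      have hs : ∀ z, stalkLin (cokernel.π j) (genericPoint ↥X) z = 0 := fun z =>
        ((DevLib.coker_exact j (genericPoint ↥X)) z).2 (surjective_stalk_adj ν hpre hiso (factorThruImage ψ) z)
      obtain ⟨a, rfl⟩ := (epi_iff_stalk (cokernel.π j)).1 inferInstance _ a
      obtain ⟨b, rfl⟩ := (epi_iff_stalk (cokernel.π j)).1 inferInstance _ b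
      rw [hs, hs]
    have hQe := CurveBddLib.euler_nonneg_of_mult_zero k hdim hL hQ hQ0
    obtain ⟨e1, m1⟩ := euler_mult_push k ν hν hL.1 hG
    obtain ⟨e2, m2⟩ := euler_mult_push k ν hν hL.1 hE
    rw [m1, hQ0, add_zero] at hm
    rw [e1] at he
    have hpushE : ShStab.IsPure X ((Scheme.Modules.pushforward ν).obj E) 1 :=
      haveI := hE.1
      DecShCurveLib.isPure_of_torsionFree hdim (not_isOpen_singleton (X ↘ Spec (CommRingCat.of k)) hdim) (hcoh hE)
        (S2288.result ν E htf)
    have hb := DecShCurveLib.mult_bounds k hdim hL (hcoh hE) hpushE ι hF h0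
    rw [e2, m2]
    rw [m2] at hb
    by_cases hi : IsIso (Limits.image.ι ψ)
    · haveI := hi
      have hlt : Curv2.euler k X F < Curv2.euler k Y E := by
        rw [← e2]
        refine euler_lt_of_mult_eq k hdim hL ι hF (hcoh hE) hni ?_
        rw [m2, ← hm]
        exact DecShCurveLib.mult_iso (k := k) (asIso (Limits.image.ι ψ))
      have hmE : DecSh.mult k X L F = DecSh.mult k Y ((Scheme.Modules.pullback ν).obj L) E :=
        hm.symm.trans (DecShCurveLib.mult_iso (k := k) (asIso (Limits.image.ι ψ)))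
      rw [hmE]
      exact hr' (by omega) hlt
    · have hG0 : ¬ IsZero G := fun hz => by
        have := CurveBddLib.mult_isZero (k := k) (L := (Scheme.Modules.pullback ν).obj L) hz
        omega
      have := h G (Limits.image.ι ψ) inferInstance hG hG0 hi
      rw [hm] at this
      exact hr (mul_le_mul_of_nonneg_left (by omega) (by omega)) this

include hν hpre hiso hdim hL in
theorem side_conditions {E : Y.Modules} (hE : Coh.IsCoh E) (htf : TorSh.IsTorsionFree E) :
    ShStab.IsPure Y E 1 ∧ ShStab.IsPure X ((Scheme.Modules.pushforward ν).obj E) 1 ∧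
      Coh.IsCoh ((Scheme.Modules.pushforward ν).obj E) ∧
      (IsZero ((Scheme.Modules.pushforward ν).obj E) ↔ IsZero E) := by
  haveI := EulerIneqLib.isNoetherian_proper (X := X) k
  haveI := EulerIneqLib.isNoetherian_proper (X := Y) k
  have hdY : topologicalKrullDim Y = 1 := (dim_eq k ν hν hpre hiso).trans hdim
  have hc := EtAlgEasy.PrinPartPush.isCoh_pushforward_finite ν hE
  have hpY := DecShCurveLib.isPure_of_torsionFree hdY
    (not_isOpen_singleton (Y ↘ Spec (CommRingCat.of k)) hdY) hE htf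
  haveI := hE.1
  refine ⟨hpY, DecShCurveLib.isPure_of_torsionFree hdim (not_isOpen_singleton (X ↘ Spec (CommRingCat.of k)) hdim) hc
    (S2288.result ν E htf), hc, fun hz => ?_, fun hz => (Scheme.Modules.pushforward ν).map_isZero hz⟩
  by_contra h0
  have hb := DecShCurveLib.mult_bounds k hdY (AmpleLib.isAmple_pullback ν hL) hE hpY (𝟙 E) hE h0
  have := CurveBddLib.mult_isZero (k := k) (L := L) hz
  rw [(euler_mult_push k ν hν hL.1 hE).2] at this
  omega

end Groth.Agent.TFCurvSSLib
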