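import Groth.Agent.ParaFLib.Cocycle
import Groth.Agent.ParaFLib.Glue
import Groth.Agent.ParaFLib.Extend
import Groth.Agent.AmpleEmb.FiniteSetQA
import Groth.Agent.GrassRepLib.MapEpi
import Groth.Agent.PullbackMod.Hom
import Groth.Agent.CurveLib.Components
import Groth.Agent.S1585
import Groth.Agent.NormUPLib.Char

/-!
# Invertible modules descend along finite maps which are isomorphisms off finitely many closed points
-/

set_option autoImplicit false
set_option backward.isDefEq.respectTransparency false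
set_option linter.style.haveILetI false
set_option linter.unusedSectionVars false
set_option maxHeartbeats 1600000

universe u

open CategoryTheory CategoryTheory.Limits AlgebraicGeometry TopologicalSpace
open Groth.Agent.PullbackMod Groth.Agent.DCohLib Groth.Agent.ParaFLib

noncomputable section

namespace Groth.Agent.TFCurvSSLib

variable {X Y : Scheme.{u}} (ν : Y ⟶ X) [IsFinite ν]

theorem exists_gen_near_fibre {N : Y.Modules} (hN : PicF.IsInvertible N) (x : X) :
    ∃ (O : X.Opens) (e : Γ(N, ν ⁻¹ᵁ O)), x ∈ O ∧ Gen (ν ⁻¹ᵁ O) e := by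
  obtain ⟨_, ⟨A, hA, rfl⟩, hxA, -⟩ :=
    X.isBasis_affineOpens.exists_subset_of_mem_open (a := x) (Set.mem_univ x) isOpen_univ
  have hW : IsAffineOpen (ν ⁻¹ᵁ A) := hA.preimage ν
  haveI : IsAffine (ν ⁻¹ᵁ A).toScheme := hW
  let i := (ν ⁻¹ᵁ A).ι
  have hfin : (i.base ⁻¹' (ν.base ⁻¹' {x})).Finite :=
    (ν.finite_preimage_singleton x).preimage (Subtype.val_injective.injOn)
  obtain ⟨σ, -, hZ, -⟩ := AmpleEmb.exists_genLocus_finite_quasiAffine
    (ParaFLib.isInvertible_restrict i hN) hfin (U := ⊤) (fun _ _ => trivial)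
  have hgen := (gen_restrict_iff i _).1 (AmpleEmb.gen_genLocus (ParaFLib.isInvertible_restrict i hN) σ)
  set G := i ''ᵁ CohB1.genLocus (N.restrict i) σ with hG
  have hC : IsClosed (ν.base '' (G : Set Y)ᶜ) := ν.isClosedMap _ G.2.isClosed_compl
  let O : X.Opens := A ⊓ ⟨(ν.base '' (G : Set Y)ᶜ)ᶜ, hC.isOpen_compl⟩
  have hO : ν ⁻¹ᵁ O ≤ G := fun y hy => by
    by_contra h
    exact hy.2 ⟨y, h, rfl⟩
  refine ⟨O, _, ⟨hxA, ?_⟩, hgen.res hO⟩
  rintro ⟨y, hy, rfl⟩
  exact hy ⟨⟨y, hxA⟩, hZ (show i.base ⟨y, hxA⟩ ∈ ν.base ⁻¹' {ν.base y} from rfl), rfl⟩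

theorem bijective_app_of_le {V W : X.Opens} [IsIso (ν ∣_ V)] (h : W ≤ V) : Function.Bijective (ν.app W) := by
  have hW : V.ι ''ᵁ (V.ι ⁻¹ᵁ W) = W := by
    rw [Scheme.Hom.image_preimage_eq_opensRange_inf, Scheme.Opens.opensRange_ι, inf_eq_right.2 h]
  have h1 : IsIso ((ν ∣_ V).app (V.ι ⁻¹ᵁ W)) := inferInstance
  rw [morphismRestrict_app] at h1
  haveI := h1
  have h2 : IsIso (ν.app (V.ι ''ᵁ (V.ι ⁻¹ᵁ W))) := by
    refine @IsIso.of_isIso_comp_right _ _ _ _ _ _ _ ?_ h1
    infer_instance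
  rw [hW] at h2
  exact ConcreteCategory.bijective_of_isIso _

/-- Pullback of invertible modules is surjective when the map is an isomorphism off finitely many closed
points. -/
theorem exists_invertible_pullback_iso {V : X.Opens} [IsIso (ν ∣_ V)] (hfin : ((V : Set X)ᶜ).Finite)
    (hcl : ∀ x ∉ V, IsClosed ({x} : Set X)) {N : Y.Modules} (hN : PicF.IsInvertible N) :
    ∃ L : X.Modules, PicF.IsInvertible L ∧ Nonempty ((Scheme.Modules.pullback ν).obj L ≅ N) := by
  classical
  choose O e hxO he using fun x : X => exists_gen_near_fibre ν hN x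
  have hopen : ∀ x : X, IsOpen (((V : Set X)ᶜ \ {x}))ᶜ := fun x => by
    have hC : IsClosed (⋃ z ∈ ((V : Set X)ᶜ \ {x}), ({z} : Set X)) :=
      (hfin.subset Set.diff_subset).isClosed_biUnion fun z hz => hcl z hz.1
    rw [Set.biUnion_of_singleton] at hC
    exact hC.isOpen_compl
  let U : X → X.Opens := fun x => O x ⊓ ⟨_, hopen x⟩
  have hU : iSup U = ⊤ := top_le_iff.1 fun x _ => Opens.mem_iSup.2 ⟨x, hxO x, fun h => h.2 rfl⟩
  have hsub : ∀ x y : X, x ≠ y → U x ⊓ U y ≤ V := fun x y hxy z hz => by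
    by_contra hzV
    have h1 : z = x := by
      by_contra h
      exact hz.1.2 ⟨hzV, h⟩
    have h2 : z = y := by
      by_contra h
      exact hz.2.2 ⟨hzV, h⟩
    exact hxy (h1.symm.trans h2)
  let P := (Scheme.Modules.pushforward ν).obj N
  let t : ∀ x : X, Γ(P, U x) := fun x =>
    N.presheaf.map (homOfLE (ν.preimage_mono (inf_le_left : U x ≤ O x))).op (e x)
  have ht : ∀ x, Gen (L := N) (ν ⁻¹ᵁ U x) (t x) := fun x => (he x).res _
  have hη : ∀ i j : X, ∃ η : (Γ(X, U i ⊓ U j))ˣ,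
      P.presheaf.map (homOfLE (inf_le_left : U i ⊓ U j ≤ U i)).op (t i) =
        (η : Γ(X, U i ⊓ U j)) • P.presheaf.map (homOfLE (inf_le_right : U i ⊓ U j ≤ U j)).op (t j) ∧
      (i = j → η = 1) := by
    intro i j
    by_cases hij : i = j
    · subst hij
      exact ⟨1, by rw [Units.val_one, one_smul], fun _ => rfl⟩
    · obtain ⟨a, ha, hab⟩ := ((ht i).res (ν.preimage_mono (inf_le_left : U i ⊓ U j ≤ U i))).exists_unit
        ((ht j).res (ν.preimage_mono (inf_le_right : U i ⊓ U j ≤ U j)))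
      haveI : IsIso (ν.app (U i ⊓ U j)) :=
        (ConcreteCategory.isIso_iff_bijective _).2 (bijective_app_of_le ν (hsub i j hij))
      let E := (asIso (ν.app (U i ⊓ U j))).commRingCatIsoToRingEquiv
      refine ⟨(ha.map E.symm.toRingHom).unit, ?_, fun h => absurd h hij⟩
      rw [IsUnit.unit_spec]
      show _ = ν.app (U i ⊓ U j) (E.symm a) • (_ : Γ(N, ν ⁻¹ᵁ (U i ⊓ U j)))
      rw [show ν.app (U i ⊓ U j) (E.symm a) = a from E.apply_symm_apply a]
      exact hab.symm
  choose η hη hη1 using hη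
  have hcoc : IsCocycle U η := by
    intro i j k
    by_cases hle : U i ⊓ U j ⊓ U k ≤ V
    · refine (bijective_app_of_le ν hle).1 ((ht k _ (ν.preimage_mono inf_le_right)).1 ?_)
      have key : ∀ (a b : X) (h : U i ⊓ U j ⊓ U k ≤ U a ⊓ U b),
          P.presheaf.map (homOfLE (h.trans inf_le_left)).op (t a) =
            X.presheaf.map (homOfLE h).op (η a b : Γ(X, U a ⊓ U b)) •
              P.presheaf.map (homOfLE (h.trans inf_le_right)).op (t b) := fun a b h => by
        have := congrArg (P.presheaf.map (homOfLE h).op) (hη a b)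
        rw [P.map_smul, res_res, res_res] at this
        exact this
      have h3 : X.presheaf.map (homOfLE (inf_le_inf_right (U k) inf_le_left : U i ⊓ U j ⊓ U k ≤ U i ⊓ U k)).op
            (η i k : Γ(X, U i ⊓ U k)) • P.presheaf.map (homOfLE (inf_le_right : U i ⊓ U j ⊓ U k ≤ U k)).op (t k) =
          (X.presheaf.map (homOfLE (inf_le_left : U i ⊓ U j ⊓ U k ≤ U i ⊓ U j)).op (η i j : Γ(X, U i ⊓ U j)) *
            X.presheaf.map (homOfLE (inf_le_inf_right (U k) inf_le_right : U i ⊓ U j ⊓ U k ≤ U j ⊓ U k)).op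
              (η j k : Γ(X, U j ⊓ U k))) • P.presheaf.map (homOfLE (inf_le_right : U i ⊓ U j ⊓ U k ≤ U k)).op (t k) := by
        rw [mul_smul, ← key i k (inf_le_inf_right (U k) inf_le_left), ← key j k (inf_le_inf_right (U k) inf_le_right),
          ← key i j inf_le_left]
      exact h3
    · have hij : i = j := by_contra fun h => hle (inf_le_left.trans (hsub i j h))
      subst hij
      have hik : i = k := by_contra fun h => hle ((inf_le_inf_right (U k) inf_le_left).trans (hsub i k h))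
      subst hik
      simp only [hη1 i i rfl, Units.val_one, map_one, one_mul]
  obtain ⟨L, s, hL, hs, hst⟩ := exists_invertible_of_cocycle U η hU hcoc
  obtain ⟨φ, hφ⟩ := exists_hom_of_bases (L := L) (L' := P) (t := t) hU hs
    (fun i j => (η i j : Γ(X, U i ⊓ U j))) hst hη
  let adj := Scheme.Modules.pullbackPushforwardAdjunction ν
  let ψ : (Scheme.Modules.pullback ν).obj L ⟶ N := (adj.homEquiv L N).symm φ
  have hfac : adj.unit.app L ≫ (Scheme.Modules.pushforward ν).map ψ = φ := by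
    exact (adj.homEquiv_unit L N ψ).symm.trans ((adj.homEquiv L N).apply_symm_apply φ)
  haveI : Epi ψ := (epi_iff_stalk ψ).2 fun y z => by
    have hyU : ν y ∈ U (ν y) := ⟨hxO _, fun h => h.2 rfl⟩
    obtain ⟨c, hc⟩ := ((ht (ν y)).bijective_germ y hyU).2 z
    refine ⟨c • pullStalk ν L y (L.presheaf.germ (U (ν y)) (ν y) hyU (s (ν y))), ?_⟩
    rw [map_smul, pullStalk_germ]
    erw [stalkLin_germ]
    refine Eq.trans ?_ hc
    congr 1
    congr 1
    rw [← hφ (ν y), ← hfac]
    rfl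
  have hM := CurveLib.isFinLocFreeOfRank_one (AmpleLib.isInvertible_pullback ν hL)
  haveI := GrassRepLib.isIso_of_epi_rank ψ hM (CurveLib.isFinLocFreeOfRank_one hN)
  exact ⟨L, hL, ⟨asIso ψ⟩⟩

end Groth.Agent.TFCurvSSLib
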