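import Groth.Agent.TFCurvSSLib.Frame
import Groth.Agent.TFCurvSSLib.PicNorm
import Groth.Agent.CurveGlueLib.Ample
import Groth.Agent.AmpleEmb.FiniteSet
import Groth.Agent.VBLib.Regular
import Groth.Agent.CurveFin.Const
import Groth.Agent.FinBirLib.Smooth
import Groth.Agent.FinBirLib.Genus
import Groth.Agent.DimLiftLib.Basic
import Groth.Agent.DCohLib.StalkRestrictFree
import Groth.Agent.DCohMore.RHomCoh
import Groth.Agent.H1ZeroLib.Relative
import Groth.Agent.QCohLib.Push

/-!
# Locally free submodules and supermodules of torsion-free modules on curves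
-/

set_option autoImplicit false
set_option backward.isDefEq.respectTransparency false
set_option linter.style.haveILetI false
set_option linter.unusedSectionVars false
set_option maxHeartbeats 1600000

universe u

open CategoryTheory CategoryTheory.Limits AlgebraicGeometry TopologicalSpace
open Groth.Agent.PullbackMod Groth.Agent.DCohLib

noncomputable section

namespace Groth.Agent.TFCurvSSLib

variable {X : Scheme.{u}}

theorem isTorsionFree_restrict {Y : Scheme.{u}} (j : Y ⟶ X) [IsOpenImmersion j] {M : X.Modules}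
    (h : TorSh.IsTorsionFree M) : TorSh.IsTorsionFree (M.restrict j) := fun y => by
  haveI := h (j y)
  let σ := (asIso (j.stalkMap y)).commRingCatIsoToRingEquiv
  let e : (M.restrict j).presheaf.stalk y ≃+ M.presheaf.stalk (j y) :=
    ((Scheme.Modules.restrictStalkNatIso j y).app M).addCommGroupIsoToAddEquiv
  refine ⟨fun r hr a b hab => e.injective ?_⟩
  have hr' : IsRegular (σ.symm r) := by
    constructor
    · intro p q hpq
      exact σ.injective (hr.left (by
        simpa only [map_mul, RingEquiv.apply_symm_apply] using congrArg σ hpq))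
    · intro p q hpq
      exact σ.injective (hr.right (by
        simpa only [map_mul, RingEquiv.apply_symm_apply] using congrArg σ hpq))
  have h1 : σ.symm r • e a = σ.symm r • e b :=
    ((DCohLib.restrictStalk_smul j M y r a).symm.trans (congrArg e hab)).trans
      (DCohLib.restrictStalk_smul j M y r b)
  exact Module.IsTorsionFree.isSMulRegular hr' h1

theorem isZero_of_subsingleton_stalks {M : X.Modules} (h : ∀ x : X, Subsingleton (M.presheaf.stalk x)) : IsZero M :=
  (IsZero.iff_id_eq_zero M).2 ((eq_zero_iff_stalk _).2 fun x => LinearMap.ext fun z => @Subsingleton.elim _ (h x) _ _)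

/-- Kernels of maps into direct images of modules on an open which vanish on a second open. -/
theorem kernel_adj (O V : X.Opens) {M : X.Modules} {R : (O : Scheme.{u}).Modules}
    (q : (Scheme.Modules.restrictFunctor O.ι).obj M ⟶ R)
    (hR : ∀ y : (O : Scheme.{u}), y.1 ∈ V → Subsingleton (R.presheaf.stalk y)) :
    (∃ e : (Scheme.Modules.restrictFunctor O.ι).obj
        (kernel ((Scheme.Modules.restrictAdjunction O.ι).homEquiv M R q)) ≅ kernel q,
      e.hom ≫ kernel.ι q = (Scheme.Modules.restrictFunctor O.ι).map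
        (kernel.ι ((Scheme.Modules.restrictAdjunction O.ι).homEquiv M R q))) ∧
    IsIso ((Scheme.Modules.restrictFunctor V.ι).map
      (kernel.ι ((Scheme.Modules.restrictAdjunction O.ι).homEquiv M R q))) := by
  set adj := Scheme.Modules.restrictAdjunction O.ι
  set a := adj.homEquiv M R q
  have hq : (Scheme.Modules.restrictFunctor O.ι).map a ≫ adj.counit.app R = q := by
    exact (adj.homEquiv_counit M R a).symm.trans ((adj.homEquiv M R).symm_apply_apply q)
  haveI : IsIso (adj.counit.app R) := inferInstance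
  constructor
  · haveI : PreservesFiniteLimits (Scheme.Modules.restrictFunctor O.ι) := inferInstance
    refine ⟨PreservesKernel.iso (Scheme.Modules.restrictFunctor O.ι) a ≪≫
      kernel.mapIso _ _ (Iso.refl _) (asIso (adj.counit.app R)) (by simpa using hq), ?_⟩
    simp [kernel.mapIso, kernel.map]
  · have hz : IsZero ((Scheme.Modules.restrictFunctor V.ι).obj ((Scheme.Modules.pushforward O.ι).obj R)) := by
      refine isZero_of_subsingleton_stalks fun y => ?_
      have : Subsingleton (((Scheme.Modules.pushforward O.ι).obj R).presheaf.stalk (V.ι y)) := by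
        refine subsingleton_of_forall_eq 0 fun z => ?_
        obtain ⟨W, hW, s, rfl⟩ := TopCat.Presheaf.exists_germ_eq ((Scheme.Modules.pushforward O.ι).obj R).presheaf z
        rw [← TopCat.Presheaf.germ_res_apply _ (homOfLE (inf_le_left : W ⊓ V ≤ W)) (V.ι y) ⟨hW, y.2⟩ s]
        have h0 : (((Scheme.Modules.pushforward O.ι).obj R).presheaf.map (homOfLE (inf_le_left : W ⊓ V ≤ W)).op s :
            Γ(R, O.ι ⁻¹ᵁ (W ⊓ V))) = 0 :=
          AssLib.eq_zero_of_germ R _ fun z hz => @Subsingleton.elim _ (hR z hz.2) _ _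
        exact (congrArg (((Scheme.Modules.pushforward O.ι).obj R).presheaf.germ (W ⊓ V) (V.ι y) ⟨hW, y.2⟩) h0).trans
          (map_zero _)
      exact @Equiv.subsingleton _ _ ((Scheme.Modules.restrictStalkNatIso V.ι y).app _).addCommGroupIsoToAddEquiv.toEquiv this
    haveI : PreservesFiniteLimits (Scheme.Modules.restrictFunctor V.ι) := inferInstance
    have h0 : (Scheme.Modules.restrictFunctor V.ι).map a = 0 := hz.eq_of_tgt _ _
    rw [← kernelComparison_comp_ι (f := a) (G := Scheme.Modules.restrictFunctor V.ι)]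
    haveI : IsIso (kernel.ι ((Scheme.Modules.restrictFunctor V.ι).map a)) := by
      rw [← kernelIsoOfEq_hom_comp_ι h0]; infer_instance
    infer_instance

section curve

variable [IsIntegral X] [AlgebraicGeometry.IsNoetherian X]

theorem isTorsionFree_free {T : Scheme.{u}} [IsIntegral T] [IsLocallyNoetherian T] (r : ℕ) :
    TorSh.IsTorsionFree (FlatMod.freeMod T r) :=
  isTorsionFree_flf (n := r) fun x => ⟨⊤, trivial, FreeFiniteLib.nonempty_restrict_freeMod _ r⟩

/-- Regular points carry free stalks. -/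
theorem rank_chart (hdim : topologicalKrullDim X ≤ 1) {F : X.Modules} (hF : Coh.IsCoh F) (htf : TorSh.IsTorsionFree F)
    {n : ℕ} (hn : Module.finrank (X.presheaf.stalk (genericPoint X)) (F.presheaf.stalk (genericPoint X)) = n) {x : X}
    (hx : IsRegularLocalRing (X.presheaf.stalk x)) :
    ∃ U : X.Opens, x ∈ U ∧ Nonempty (F.restrict U.ι ≅ FlatMod.freeMod (↑U) n) := by
  haveI := hF.1
  haveI := hx
  haveI := htf x
  have hd : ringKrullDim (X.presheaf.stalk x) ≤ 1 := by
    rw [ringKrullDim_stalk_eq_coheight]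
    refine le_trans (Order.coheight_le_krullDim _) ?_
    rw [← DimLiftLib.topologicalKrullDim_eq]
    exact hdim
  haveI := VBLib.isPrincipalIdealRing_of_regular _ hd
  haveI := PullbackMod.finite_stalk_of_isFT hF.2 x
  haveI : Module.Free (X.presheaf.stalk x) (F.presheaf.stalk x) := Module.free_of_finite_type_torsion_free'
  have hfree : FreeAt (Module.finrank (X.presheaf.stalk x) (F.presheaf.stalk x)) F x :=
    ⟨(Module.finBasis _ _).equivFun⟩
  obtain ⟨U, hxU, ⟨i⟩⟩ := exists_nhd_freeAt F (QCohLib.isFP_of_isCoh F hF) hfree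
  obtain ⟨eη⟩ := freeAt_of_restrict_iso F i ((genericPoint_specializes x).mem_open U.2 hxU)
  have : Module.finrank (X.presheaf.stalk x) (F.presheaf.stalk x) = n := by
    rw [← hn, eη.finrank_eq]
    simp
  exact ⟨U, hxU, ⟨this ▸ i⟩⟩

/-- Assembling a rank. -/
theorem flf_of_cover {E F : X.Modules} [Coh.IsQCoh E] {O V : X.Opens} (hOV : ∀ x : X, x ∈ O ∨ x ∈ V) {r n : ℕ}
    (hO : Nonempty (E.restrict O.ι ≅ FlatMod.freeMod (↑O) r))
    (hV : ∀ x ∈ V, ∃ U : X.Opens, x ∈ U ∧ Nonempty (F.restrict U.ι ≅ FlatMod.freeMod (↑U) n))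
    (eV : Nonempty (E.restrict V.ι ≅ F.restrict V.ι)) (hηO : genericPoint X ∈ O) (hηV : genericPoint X ∈ V) :
    FlatMod.IsFinLocFreeOfRank n E := by
  obtain ⟨eV⟩ := eV
  have hVchart : ∀ x ∈ V, ∃ U : X.Opens, x ∈ U ∧ Nonempty (E.restrict U.ι ≅ FlatMod.freeMod (↑U) n) := fun x hx => by
    obtain ⟨U, hxU, ⟨i⟩⟩ := hV x hx
    obtain ⟨i'⟩ := FreeFiniteLib.nonempty_restrict_free_of_le F (inf_le_left : U ⊓ V ≤ U) i
    have h := X.homOfLE_ι (inf_le_right : U ⊓ V ≤ V)
    let c : ∀ N : X.Modules, N.restrict (U ⊓ V).ι ≅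
        (Scheme.Modules.restrictFunctor (X.homOfLE (inf_le_right : U ⊓ V ≤ V))).obj (N.restrict V.ι) := fun N =>
      ((Scheme.Modules.restrictFunctorComp (X.homOfLE (inf_le_right : U ⊓ V ≤ V)) V.ι).symm ≪≫
        Scheme.Modules.restrictFunctorCongr h).symm.app N
    exact ⟨U ⊓ V, ⟨hxU, hx⟩, ⟨c E ≪≫ (Scheme.Modules.restrictFunctor _).mapIso eV ≪≫ (c F).symm ≪≫ i'⟩⟩
  obtain ⟨eO⟩ := hO
  obtain ⟨U, hηU, ⟨i⟩⟩ := hVchart _ hηV
  obtain rfl := freeAt_unique E (freeAt_of_restrict_iso E eO hηO) (freeAt_of_restrict_iso E i hηU)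
  intro x
  rcases hOV x with hx | hx
  · exact ⟨O, hx, ⟨eO⟩⟩
  · exact hVchart x hx

variable (k : Type u) [Field k] [X.Over (Spec (CommRingCat.of k))] [IsProper (X ↘ Spec (CommRingCat.of k))]

include k

theorem finite_nonregular (hdim : topologicalKrullDim X = 1) :
    {x : X | ¬ IsRegularLocalRing (X.presheaf.stalk x)}.Finite ∧
      ∀ x : X, ¬ IsRegularLocalRing (X.presheaf.stalk x) → IsClosed ({x} : Set X) ∧ x ≠ genericPoint X := by
  obtain ⟨hfin, hdom, ⟨V, hV, hiso⟩, hint, hnor⟩ := S1585.result k X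
  haveI := hiso
  have hreg : ∀ x : X, x ∈ V → IsRegularLocalRing (X.presheaf.stalk x) := fun x hx => by
    haveI : Surjective (Curv2.normalizationι X ∣_ V) := inferInstance
    obtain ⟨y, hy⟩ := (Curv2.normalizationι X ∣_ V).surjective ⟨x, hx⟩
    have h1 : IsIso ((Curv2.normalizationι X ∣_ V).stalkMap y) := inferInstance
    have h2 : IsIso ((Curv2.normalizationι X).stalkMap y.1) :=
      ((MorphismProperty.isomorphisms CommRingCat).arrow_mk_iso_iff
        (morphismRestrictStalkMap (Curv2.normalizationι X) V y)).1 h1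
    haveI := h2
    let e := (asIso ((Curv2.normalizationι X).stalkMap y.1)).commRingCatIsoToRingEquiv
    have hxy : Curv2.normalizationι X y.1 = x :=
      (morphismRestrict_base_coe (Curv2.normalizationι X) V y).symm.trans (congrArg Subtype.val hy)
    haveI := (hnor y.1).1
    haveI := (hnor y.1).2
    haveI : IsIntegrallyClosed (X.presheaf.stalk (Curv2.normalizationι X y.1)) := IsIntegrallyClosed.of_equiv e.symm
    haveI : Ring.KrullDimLE 1 (X.presheaf.stalk (Curv2.normalizationι X y.1)) := by
      rw [Ring.krullDimLE_iff, ringKrullDim_stalk_eq_coheight]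
      refine le_trans (Order.coheight_le_krullDim _) ?_
      rw [← DimLiftLib.topologicalKrullDim_eq, hdim]
      rfl
    rw [← hxy]
    exact FinBirLib.isRegularLocalRing_of_normal_dimLE_one _
  refine ⟨(CurveFin.finite_compl_open hdim.le V hV).subset fun x hx hxV => hx (hreg x hxV), fun x hx => ⟨?_, ?_⟩⟩
  · refine isClosed_of_closure_subset fun y hy => ?_
    exact (FinBirLib.eq_of_specializes_compl hdim.le V (V.2.dense hV) (fun h => hx (hreg x h))
      (specializes_iff_mem_closure.2 hy)).symm
  · rintro rfl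
    exact hx (hreg _ ((genericPoint_spec X).mem_open_set_iff V.2 |>.2 (by simpa using hV)))

/-- Locally free submodules and supermodules with cokernels at the singular points. -/
theorem exists_sub_and_super (hdim : topologicalKrullDim X = 1) {F : X.Modules} (hF : Coh.IsCoh F)
    (htf : TorSh.IsTorsionFree F) {n : ℕ}
    (hn : Module.finrank (X.presheaf.stalk (genericPoint X)) (F.presheaf.stalk (genericPoint X)) = n) :
    (∃ (E : X.Modules) (i : E ⟶ F), FlatMod.IsFinLocFreeOfRank n E ∧ Mono i ∧
        ∀ x : X, IsRegularLocalRing (X.presheaf.stalk x) → Subsingleton ((cokernel i).presheaf.stalk x)) ∧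
      (∃ (E' : X.Modules) (j : F ⟶ E'), FlatMod.IsFinLocFreeOfRank n E' ∧ Mono j ∧
        ∀ x : X, IsRegularLocalRing (X.presheaf.stalk x) → Subsingleton ((cokernel j).presheaf.stalk x)) := by
  classical
  haveI := hF.1
  obtain ⟨hSfin, hSc⟩ := finite_nonregular k hdim
  set S := {x : X | ¬ IsRegularLocalRing (X.presheaf.stalk x)}
  let η := genericPoint ↥X
  have hηS : η ∉ S := fun h => (hSc η h).2 rfl
  have hScl : IsClosed S := by
    rw [← Set.biUnion_of_singleton S]
    exact hSfin.isClosed_biUnion fun z hz => (hSc z hz).1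
  let V : X.Opens := ⟨Sᶜ, hScl.isOpen_compl⟩
  have hVreg : ∀ x ∈ V, IsRegularLocalRing (X.presheaf.stalk x) := fun x hx => not_not.1 hx
  -- an affine open containing the singular points
  haveI : X.IsSeparated := ⟨by
    rw [← terminal.comp_from (X ↘ Spec (CommRingCat.of k))]
    infer_instance⟩
  obtain ⟨L, hL⟩ := CurveGlueLib.exists_isAmple (X := X) hdim.le
  obtain ⟨N, σ, hZ, -, hAaff⟩ := AmpleEmb.exists_genLocus_finite hL (hSfin.insert η) (U := ⊤) fun _ _ => trivial
  set A := CohB1.genLocus (CohB1.tensorPow L (N + 1)) σ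
  haveI : IsAffine A.toScheme := hAaff
  haveI : Nonempty A := ⟨⟨η, hZ (Set.mem_insert _ _)⟩⟩
  haveI : Nonempty A.toScheme := ⟨⟨η, hZ (Set.mem_insert _ _)⟩⟩
  haveI : IsIntegral A.toScheme := isIntegral_of_isOpenImmersion A.ι
  haveI : IsLocallyNoetherian A.toScheme := isLocallyNoetherian_of_isOpenImmersion A.ι
  have hFA : Coh.IsCoh (F.restrict A.ι) := DCohMore.isCoh_restrict' hF A
  obtain ⟨r, d, φ, ψ, hd, hφψ, hψφ⟩ := exists_frame hFA (isTorsionFree_restrict A.ι htf)
  obtain ⟨hφm, hφs⟩ := mono_surj_of_comp hd φ ψ hφψ hψφ (isTorsionFree_free r)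
  obtain ⟨hψm, hψs⟩ := mono_surj_of_comp hd ψ φ hψφ hφψ (isTorsionFree_restrict A.ι htf)
  -- remove the other zeros of `d`
  let P := A.ι ''ᵁ A.toScheme.basicOpen d
  have hne : (A.toScheme.basicOpen d : Set A.toScheme).Nonempty := by
    rw [Set.nonempty_iff_ne_empty]
    intro h
    have : A.toScheme.basicOpen d = ⊥ := Opens.ext (by simpa using h)
    exact hd ((AlgebraicGeometry.basicOpen_eq_bot_iff d).1 this)
  have hPfin : ((P : Set X)ᶜ).Finite := CurveFin.finite_compl_open hdim.le P (hne.image _)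
  have hηP : η ∈ P := (genericPoint_spec X).mem_open_set_iff P.2 |>.2 (by
    rw [Set.univ_inter]; exact hne.image _)
  have hC : IsClosed ((P : Set X)ᶜ \ S) := by
    rw [← Set.biUnion_of_singleton ((P : Set X)ᶜ \ S)]
    refine (hPfin.subset fun z hz => hz.1).isClosed_biUnion fun z hz => isClosed_of_closure_subset fun y hy => ?_
    exact (FinBirLib.eq_of_specializes_compl hdim.le P (P.2.dense ⟨η, hηP⟩) hz.1
      (specializes_iff_mem_closure.2 hy)).symm
  let O : X.Opens := A ⊓ ⟨((P : Set X)ᶜ \ S)ᶜ, hC.isOpen_compl⟩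
  have hηO : η ∈ O := ⟨hZ (Set.mem_insert _ _), fun h => h.1 hηP⟩
  haveI : Nonempty O.toScheme := ⟨⟨η, hηO⟩⟩
  haveI : IsIntegral O.toScheme := isIntegral_of_isOpenImmersion O.ι
  haveI : IsLocallyNoetherian O.toScheme := isLocallyNoetherian_of_isOpenImmersion O.ι
  have hOV : ∀ x : X, x ∈ O ∨ x ∈ V := fun x => (em (x ∈ S)).imp
    (fun hx => ⟨hZ (Set.mem_insert_of_mem _ hx), fun h => h.2 hx⟩) (fun hx => hx)
  let i := X.homOfLE (inf_le_left : O ≤ A)
  have hiA : ∀ y : O.toScheme, y.1 ∈ V → i y ∈ A.toScheme.basicOpen d := fun y hy => by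
    have h1 : y.1 ∈ P := by
      by_contra h
      exact y.2.2 ⟨h, hy⟩
    obtain ⟨a, ha, hay⟩ := h1
    have : i y = a := Subtype.ext (((congr($(X.homOfLE_ι (inf_le_left : O ≤ A)).base y) :) : _).trans hay.symm)
    rw [this]; exact ha
  obtain ⟨efree⟩ := FreeFiniteLib.nonempty_restrict_freeMod i r
  let eF : (Scheme.Modules.restrictFunctor i).obj (F.restrict A.ι) ≅ F.restrict O.ι :=
    ((Scheme.Modules.restrictFunctorComp i A.ι).symm ≪≫
      Scheme.Modules.restrictFunctorCongr (X.homOfLE_ι (inf_le_left : O ≤ A))).app F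
  let φO : FlatMod.freeMod (↑O) r ⟶ F.restrict O.ι :=
    efree.inv ≫ (Scheme.Modules.restrictFunctor i).map φ ≫ eF.hom
  let ψO : F.restrict O.ι ⟶ FlatMod.freeMod (↑O) r :=
    eF.inv ≫ (Scheme.Modules.restrictFunctor i).map ψ ≫ efree.hom
  haveI := hφm
  haveI := hψm
  haveI : PreservesFiniteLimits (Scheme.Modules.restrictFunctor i) := inferInstance
  haveI : Mono ((Scheme.Modules.restrictFunctor i).map φ) := inferInstance
  haveI : Mono ((Scheme.Modules.restrictFunctor i).map ψ) := inferInstance
  haveI : Mono φO := inferInstance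
  haveI : Mono ψO := inferInstance
  have isurj : ∀ {M N : O.toScheme.Modules} (e : M ≅ N) (y : O.toScheme), Function.Surjective (stalkLin e.hom y) :=
    fun e y => (epi_iff_stalk e.hom).1 inferInstance y
  have hφO : ∀ y : O.toScheme, y.1 ∈ V → Function.Surjective (stalkLin φO y) := fun y hy => by
    simp only [φO, stalkLin_comp, LinearMap.coe_comp]
    exact ((isurj eF y).comp ((AmpleFamLib.surjective_stalkLin_restrict i φ y).2 (hφs _ (hiA y hy)))).comp
      (isurj efree.symm y)
  have hψO : ∀ y : O.toScheme, y.1 ∈ V → Function.Surjective (stalkLin ψO y) := fun y hy => by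
    simp only [ψO, stalkLin_comp, LinearMap.coe_comp]
    exact ((isurj efree y).comp ((AmpleFamLib.surjective_stalkLin_restrict i ψ y).2 (hψs _ (hiA y hy)))).comp
      (isurj eF.symm y)
  have hVchart : ∀ x ∈ V, ∃ U : X.Opens, x ∈ U ∧ Nonempty (F.restrict U.ι ≅ FlatMod.freeMod (↑U) n) :=
    fun x hx => rank_chart hdim.le hF htf hn (hVreg x hx)
  have hcok : ∀ {Z : Scheme.{u}} {M N : Z.Modules} (g : M ⟶ N) (y : Z), Function.Surjective (stalkLin g y) →
      Subsingleton ((cokernel g).presheaf.stalk y) := fun g y hg => by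
    have hs : ∀ z, stalkLin (cokernel.π g) y z = 0 := fun z => by
      obtain ⟨w, rfl⟩ := hg z
      rw [← LinearMap.comp_apply, ← stalkLin_comp, cokernel.condition, TFOneLib.stalkLin_zero, LinearMap.zero_apply]
    refine subsingleton_of_forall_eq 0 fun a => ?_
    obtain ⟨a, rfl⟩ := (epi_iff_stalk (cokernel.π g)).1 inferInstance y a
    exact hs a
  refine ⟨?_, ?_⟩
  · -- the submodule
    let q := cokernel.π φO
    obtain ⟨⟨e, -⟩, hV'⟩ := kernel_adj O V (M := F) q fun y hy => hcok φO y (hφO y hy)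
    set ι := kernel.ι ((Scheme.Modules.restrictAdjunction O.ι).homEquiv F (cokernel φO) q)
    haveI := hV'
    haveI : Coh.IsQCoh ((Scheme.Modules.pushforward O.ι).obj (cokernel φO)) := by
      haveI : Coh.IsQCoh (cokernel φO) :=
        (QCohLib.isCoh_kernel_cokernel φO
          (CurveLib.isCoh_of_isFinLocFree fun x => ⟨⊤, r, trivial, FreeFiniteLib.nonempty_restrict_freeMod _ r⟩)
          (DCohMore.isCoh_restrict' hF O)).2.1
      haveI : QuasiCompact O.ι := inferInstance
      exact QCohLib.isQCoh_pushforward (cokernel φO) O.ι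
    haveI : Coh.IsQCoh (kernel ((Scheme.Modules.restrictAdjunction O.ι).homEquiv F (cokernel φO) q)) :=
      (H1ZeroLib.isQCoh_kernel _)
    refine ⟨_, ι, flf_of_cover (r := r) hOV ⟨e ≪≫ (asIso (kernel.lift q φO (cokernel.condition φO))).symm⟩
      hVchart ⟨asIso ((Scheme.Modules.restrictFunctor V.ι).map ι)⟩ hηO hηS, inferInstance, fun x hx => ?_⟩
    exact hcok ι x (AmpleFamLib.bijective_stalk_of_isIso_restrict ι V hV' (not_not.2 hx)).2
  · -- the supermodule
    let adjO := Scheme.Modules.restrictAdjunction O.ι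
    let M := (Scheme.Modules.pushforward O.ι).obj (FlatMod.freeMod (↑O) r)
    let t : F ⟶ M := adjO.homEquiv F _ ψO
    have ht : (Scheme.Modules.restrictFunctor O.ι).map t ≫ adjO.counit.app _ = ψO := by
      exact (adjO.homEquiv_counit F _ t).symm.trans ((adjO.homEquiv F _).symm_apply_apply ψO)
    have htO : ∀ y : O.toScheme, y.1 ∈ V → Function.Surjective (stalkLin t y.1) := fun y hy => by
      refine (AmpleFamLib.surjective_stalkLin_restrict O.ι t y).1 fun z => ?_
      have hb := (isIso_iff_stalk (adjO.counit.app (FlatMod.freeMod (↑O) r))).1 inferInstance y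
      obtain ⟨w, hw⟩ := hψO y hy (stalkLin (adjO.counit.app (FlatMod.freeMod (↑O) r)) y z)
      exact ⟨w, hb.1 (by rw [← hw, ← ht, stalkLin_comp]; rfl)⟩
    haveI htm : Mono t := by
      refine TFOneLib.mono_of_maxPt htf t fun z hz => ?_
      obtain rfl : η = z := hz η (genericPoint_specializes z)
      intro a b hab
      let y : O.toScheme := ⟨η, hηO⟩
      let eF' := ((Scheme.Modules.restrictStalkNatIso O.ι y).app F).addCommGroupIsoToAddEquiv
      let eM' := ((Scheme.Modules.restrictStalkNatIso O.ι y).app M).addCommGroupIsoToAddEquiv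
      have h2 : ∀ w, stalkLin t η (eF' w) = eM' (stalkLin ((Scheme.Modules.restrictFunctor O.ι).map t) y w) :=
        fun w => (ConcreteCategory.congr_hom ((Scheme.Modules.restrictStalkNatIso O.ι y).hom.naturality t) w).symm
      obtain ⟨a, rfl⟩ := eF'.surjective a
      obtain ⟨b, rfl⟩ := eF'.surjective b
      rw [h2, h2] at hab
      refine congrArg eF' ((mono_iff_stalk ψO).1 inferInstance y ?_)
      rw [← ht, stalkLin_comp, LinearMap.comp_apply, LinearMap.comp_apply, eM'.injective hab]
    let tV := (Scheme.Modules.restrictFunctor V.ι).map t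
    haveI : Mono tV := inferInstance
    let q := cokernel.π tV
    set a := (Scheme.Modules.restrictAdjunction V.ι).homEquiv M (cokernel tV) q
    set ι := kernel.ι a
    obtain ⟨⟨e', he⟩, hO'⟩ := kernel_adj V O (M := M) q fun y hy =>
      hcok tV y ((AmpleFamLib.surjective_stalkLin_restrict V.ι t y).2 (htO ⟨y.1, hy⟩ y.2))
    have hta : t ≫ a = 0 := by
      rw [← Adjunction.homEquiv_naturality_left, show (Scheme.Modules.restrictFunctor V.ι).map t ≫ q = 0 from
        cokernel.condition tV, Adjunction.homEquiv_unit, Functor.map_zero, comp_zero]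
    let j : F ⟶ kernel a := kernel.lift a t hta
    have hj : j ≫ ι = t := kernel.lift_ι _ _ _
    haveI : Mono j := mono_of_mono_fac hj
    haveI := hO'
    have hjV : IsIso ((Scheme.Modules.restrictFunctor V.ι).map j) := by
      have : (Scheme.Modules.restrictFunctor V.ι).map j =
          kernel.lift q tV (cokernel.condition tV) ≫ e'.inv := by
        rw [Iso.eq_comp_inv, ← cancel_mono (kernel.ι q), Category.assoc, he, ← Functor.map_comp, hj,
          kernel.lift_ι]
      rw [this]
      infer_instance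
    haveI := hjV
    haveI : Coh.IsQCoh (kernel a) := by
      haveI : Coh.IsQCoh (FlatMod.freeMod (↑O) r) :=
        (CurveLib.isCoh_of_isFinLocFree fun x => ⟨⊤, r, trivial, FreeFiniteLib.nonempty_restrict_freeMod _ r⟩).1
      haveI : Coh.IsQCoh M := QCohLib.isQCoh_pushforward (FlatMod.freeMod (↑O) r) O.ι
      haveI : Coh.IsQCoh ((Scheme.Modules.restrictFunctor V.ι).obj F) := inferInstance
      haveI : Coh.IsQCoh ((Scheme.Modules.restrictFunctor V.ι).obj M) := inferInstance
      haveI : Coh.IsQCoh (cokernel tV) := (QCohLib.isQCoh_image tV inferInstance inferInstance).2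
      haveI : Coh.IsQCoh ((Scheme.Modules.pushforward V.ι).obj (cokernel tV)) := QCohLib.isQCoh_pushforward (cokernel tV) V.ι
      exact (H1ZeroLib.isQCoh_kernel _)
    refine ⟨_, j, flf_of_cover (r := r) hOV
      ⟨asIso ((Scheme.Modules.restrictFunctor O.ι).map ι) ≪≫ asIso (adjO.counit.app _)⟩
      hVchart ⟨(asIso ((Scheme.Modules.restrictFunctor V.ι).map j)).symm⟩ hηO hηS, inferInstance, fun x hx => ?_⟩
    exact hcok j x (AmpleFamLib.bijective_stalk_of_isIso_restrict j V hjV (not_not.2 hx)).2

end curve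

end Groth.Agent.TFCurvSSLib
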