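import Groth.Agent.TFCurvSSLib.Push
import Groth.Agent.StalkHomLib.HomSect
import Groth.Agent.AssTower.Tower
import Groth.Agent.AmpleFamLib.TopVanPush
import Groth.Agent.AmpleLib.GenLocus
import Groth.Agent.FreeFiniteLib.Basic
import Groth.Agent.TFOneLib.Basic

/-!
# Frames of torsion-free modules on affine integral schemes
-/

set_option autoImplicit false
set_option backward.isDefEq.respectTransparency false
set_option linter.style.haveILetI false
set_option linter.unusedSectionVars false
set_option maxHeartbeats 1600000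

universe u

open CategoryTheory CategoryTheory.Limits AlgebraicGeometry TopologicalSpace
open Groth.Agent.PullbackMod Groth.Agent.DCohLib

noncomputable section

namespace Groth.Agent.TFCurvSSLib

/-- A frame of a lattice. -/
theorem exists_frame_alg {B K M V : Type*} [CommRing B] [IsDomain B] [Field K] [Algebra B K] [IsFractionRing B K]
    [AddCommGroup M] [Module B M] [Module.Finite B M] [AddCommGroup V] [Module K V] [Module B V]
    [IsScalarTower B K V] [Module.Finite K V] (f : M →ₗ[B] V) (hf : Function.Injective f)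
    (hsurj : ∀ v : V, ∃ (s : B) (m : M), s ≠ 0 ∧ s • v = f m) :
    ∃ (d : B) (m : Fin (Module.finrank K V) → M) (ψ : Fin (Module.finrank K V) → (M →ₗ[B] B)),
      d ≠ 0 ∧ (∀ i j, ψ i (m j) = if i = j then d else 0) ∧ ∀ x, ∑ i, ψ i x • m i = d • x := by
  classical
  let b := Module.finBasis K V
  choose s m hs hsm using fun i => hsurj (b i)
  have hinj := IsFractionRing.injective B K
  have hs' : ∀ i, algebraMap B K (s i) ≠ 0 := fun i h => hs i (hinj (by rw [h, map_zero]))
  let v := b.unitsSMul fun i => Units.mk0 _ (hs' i)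
  have hv : ∀ i, v i = f (m i) := fun i => by
    rw [← hsm i, Module.Basis.unitsSMul_apply]
    show algebraMap B K (s i) • b i = s i • b i
    exact algebraMap_smul K (s i) (b i)
  obtain ⟨t, ht⟩ := (Module.Finite.fg_top : (⊤ : Submodule B M).FG)
  obtain ⟨⟨d, hd⟩, hd'⟩ := IsLocalization.exist_integer_multiples_of_finite (nonZeroDivisors B)
    (fun p : Fin (Module.finrank K V) × t => v.repr (f p.2.1) p.1)
  have key : ∀ i x, ∃ c : B, algebraMap B K c = algebraMap B K d * v.repr (f x) i := fun i x => by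
    have hx : x ∈ Submodule.span B (t : Set M) := ht ▸ Submodule.mem_top
    induction hx using Submodule.span_induction with
    | mem x hx =>
      obtain ⟨c, hc⟩ := hd' (i, ⟨x, hx⟩)
      exact ⟨c, hc.trans (Algebra.smul_def d _)⟩
    | zero => exact ⟨0, by simp⟩
    | add x y _ _ hx hy =>
      obtain ⟨a, ha⟩ := hx
      obtain ⟨c, hc⟩ := hy
      exact ⟨a + c, by rw [map_add, map_add, map_add, Finsupp.add_apply, mul_add, ha, hc]⟩
    | smul r x _ hx =>
      obtain ⟨c, hc⟩ := hx
      exact ⟨r * c, by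
        rw [map_mul, hc, map_smul, ← algebraMap_smul K r (f x), map_smul, Finsupp.smul_apply, smul_eq_mul]
        ring⟩
  choose c hc using key
  let ψ : Fin (Module.finrank K V) → (M →ₗ[B] B) := fun i =>
    { toFun := c i
      map_add' := fun x y => hinj (by rw [map_add (algebraMap B K), hc, hc, hc, map_add, map_add, Finsupp.add_apply, mul_add])
      map_smul' := fun r x => hinj (by
        rw [RingHom.id_apply, smul_eq_mul, map_mul (algebraMap B K), hc, hc, map_smul, ← algebraMap_smul K r (f x),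
          map_smul, Finsupp.smul_apply, smul_eq_mul]
        ring) }
  refine ⟨d, m, ψ, nonZeroDivisors.ne_zero hd, fun i j => hinj ?_, fun x => hf ?_⟩
  · show algebraMap B K (c i (m j)) = _
    rw [hc, ← hv, v.repr_self_apply]
    by_cases h : i = j
    · subst h; simp
    · rw [if_neg h, if_neg (Ne.symm h), map_zero, mul_zero]
  · rw [map_sum, map_smul, ← algebraMap_smul K d (f x)]
    conv_rhs => rw [← v.sum_repr (f x), Finset.smul_sum]
    refine Finset.sum_congr rfl fun i _ => ?_
    rw [map_smul, ← hv, ← algebraMap_smul K (ψ i x) (v i), smul_smul]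
    exact congrArg (· • v i) (hc i x)

/-- A frame of a torsion-free coherent module on an integral affine scheme. -/
theorem exists_frame {T : Scheme.{u}} [IsAffine T] [IsIntegral T] [IsLocallyNoetherian T] {F : T.Modules}
    (hF : Coh.IsCoh F) (htf : TorSh.IsTorsionFree F) :
    ∃ (r : ℕ) (d : Γ(T, ⊤)) (φ : FlatMod.freeMod T r ⟶ F) (ψ : F ⟶ FlatMod.freeMod T r), d ≠ 0 ∧
      φ ≫ ψ = FactorOne.mulEnd _ d ∧ ψ ≫ φ = FactorOne.mulEnd F d := by
  classical
  haveI := hF.1
  have hA : IsAffineOpen (⊤ : T.Opens) := isAffineOpen_top T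
  let η := genericPoint ↥T
  haveI : Nonempty (⊤ : T.Opens) := ⟨⟨η, trivial⟩⟩
  letI := Module.compHom (F.presheaf.stalk η) (T.presheaf.germ ⊤ η trivial).hom
  letI : Algebra Γ(T, ⊤) (T.presheaf.stalk η) := (T.presheaf.germ ⊤ η trivial).hom.toAlgebra
  haveI : IsScalarTower Γ(T, ⊤) (T.presheaf.stalk η) (F.presheaf.stalk η) := .of_algebraMap_smul fun _ _ => rfl
  letI : Field (T.presheaf.stalk η) := inferInstanceAs (Field T.functionField)
  haveI : IsFractionRing Γ(T, ⊤) (T.presheaf.stalk η) := functionField_isFractionRing_of_isAffineOpen T ⊤ hA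
  haveI : Module.Finite Γ(T, ⊤) Γ(F, (⊤ : T.Opens)) := QCohLib.finite_sections F hF.2 hA
  haveI := PullbackMod.finite_stalk_of_isFT hF.2 η
  have hη : ∀ (W : T.Opens) (y : T), y ∈ W → η ∈ W := fun W y hy => (genericPoint_specializes y).mem_open W.2 hy
  have hinj : Function.Injective (FlatLocus.germL F ⊤ η trivial) := by
    rw [injective_iff_map_eq_zero]
    intro m hm
    refine TFOneLib.eq_zero_of_maxPt htf m fun z hz hmax => ?_
    obtain rfl : z = η := (hmax η (genericPoint_specializes z)).symm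
    exact hm
  have hloc := FlatLocus.isLocalizedModule_germL F hA η trivial
  obtain ⟨d, m, ψ, hd, hψm, hsum⟩ := exists_frame_alg (K := T.presheaf.stalk η) (FlatLocus.germL F ⊤ η trivial) hinj
    fun v => by
      obtain ⟨⟨x, s⟩, hxs⟩ := hloc.surj v
      exact ⟨s.1, x, fun h => s.2 (h ▸ Submodule.zero_mem _), hxs⟩
  choose ψh hψh using fun i => (StalkHomLib.detW_top F (Coh.structureModule T)).2
    ({ toFun := fun x => ψ i x
       map_add' := fun x y => map_add (ψ i) x y
       map_smul' := fun a x => map_smul (ψ i) a x } : Γ(F, ⊤) →ₗ[Γ(T, ⊤)] Γ(Coh.structureModule T, ⊤))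
  let φ : FlatMod.freeMod T (Module.finrank (T.presheaf.stalk η) (F.presheaf.stalk η)) ⟶ F :=
    Sigma.desc fun j => secHom F (m j)
  let Ψ : F ⟶ FlatMod.freeMod T (Module.finrank (T.presheaf.stalk η) (F.presheaf.stalk η)) :=
    ∑ i, ψh i ≫ Sigma.ι (fun _ : Fin _ => Coh.structureModule T) i
  refine ⟨_, d, φ, Ψ, hd, Sigma.hom_ext _ _ fun j => ?_, ?_⟩
  · rw [← Category.assoc, Sigma.ι_desc, AssTower.mulEnd_comm]
    simp only [Ψ, Preadditive.comp_sum]
    have h : ∀ i, secHom F (m j) ≫ ψh i =
        if i = j then FactorOne.mulEnd (Coh.structureModule T) d else 0 := fun i => by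
      refine DCohLib.hom_unit_ext ?_
      show (ψh i).app ⊤ ((secHom F (m j)).app ⊤ (1 : Γ(T, ⊤))) = _
      rw [show (secHom F (m j)).app ⊤ (1 : Γ(T, ⊤)) = m j from AmpleLib.sec_secHom (m j)]
      refine (LinearMap.congr_fun (hψh i) (m j)).trans ?_
      show ψ i (m j) = _
      rw [hψm]
      by_cases hij : i = j
      · rw [if_pos hij, if_pos hij, FactorOne.mulEnd_app]
        show d = T.presheaf.map (homOfLE le_rfl).op d * (1 : Γ(T, ⊤))
        rw [mul_one]
        exact (ConcreteCategory.congr_hom (T.presheaf.map_id _) d).symm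
      · rw [if_neg hij, if_neg hij]; rfl
    simp only [← Category.assoc, h]
    rw [Finset.sum_eq_single j (fun i _ hi => by rw [if_neg hi, Limits.zero_comp])
      (fun h => absurd (Finset.mem_univ j) h), if_pos rfl]
  · refine (StalkHomLib.detW_top F F).1 (LinearMap.ext fun x => ?_)
    show (Ψ ≫ φ).app ⊤ x = (FactorOne.mulEnd F d).app ⊤ x
    simp only [Ψ, Preadditive.sum_comp, Category.assoc, φ, Sigma.ι_desc]
    rw [FactorOne.app_sum, FactorOne.mulEnd_app]
    have : T.presheaf.map (homOfLE (le_top : (⊤ : T.Opens) ≤ ⊤)).op d = d :=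
      ConcreteCategory.congr_hom (T.presheaf.map_id _) d
    rw [this, ← hsum x]
    refine Finset.sum_congr rfl fun i _ => ?_
    show (secHom F (m i)).app ⊤ ((ψh i).app ⊤ x) = _
    rw [show (ψh i).app ⊤ x = ψ i x from LinearMap.congr_fun (hψh i) x]
    refine (congrArg ((secHom F (m i)).app ⊤) (mul_one (ψ i x : Γ(T, ⊤))).symm).trans ?_
    refine (Scheme.Modules.Hom.app_smul (secHom F (m i)) (ψ i x : Γ(T, ⊤)) (1 : Γ(T, ⊤))).trans ?_
    rw [show (secHom F (m i)).app ⊤ (1 : Γ(T, ⊤)) = m i from AmpleLib.sec_secHom (m i)]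

/-- Maps composing to multiplication by a function: mono and onto on stalks where the function is invertible. -/
theorem mono_surj_of_comp {T : Scheme.{u}} [IsIntegral T] {M N : T.Modules} {d : Γ(T, ⊤)} (hd : d ≠ 0)
    (φ : M ⟶ N) (ψ : N ⟶ M) (h₁ : φ ≫ ψ = FactorOne.mulEnd M d) (h₂ : ψ ≫ φ = FactorOne.mulEnd N d)
    (hM : TorSh.IsTorsionFree M) :
    Mono φ ∧ ∀ y : T, y ∈ T.basicOpen d → Function.Surjective (stalkLin φ y) := by
  have hg : ∀ y : T, T.presheaf.germ ⊤ y trivial d ≠ 0 := fun y h =>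
    hd (AlgebraicGeometry.germ_injective_of_isIntegral T y (U := ⊤) trivial (h.trans (map_zero _).symm))
  refine ⟨(mono_iff_stalk φ).2 fun y a b hab => ?_, fun y hy z => ?_⟩
  · have he := congrArg (stalkLin ψ y) hab
    rw [← LinearMap.comp_apply, ← LinearMap.comp_apply, ← stalkLin_comp, h₁, AssTower.stalkLin_mulEnd,
      AssTower.stalkLin_mulEnd] at he
    haveI := hM y
    exact smul_right_injective _ (hg y) he
  · obtain ⟨u, hu⟩ := (T.mem_basicOpen d y trivial).1 hy
    refine ⟨stalkLin ψ y ((↑u⁻¹ : T.presheaf.stalk y) • z), ?_⟩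
    rw [← LinearMap.comp_apply, ← stalkLin_comp, h₂, AssTower.stalkLin_mulEnd, ← hu, smul_smul, Units.mul_inv,
      one_smul]

end Groth.Agent.TFCurvSSLib
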