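import Groth.Agent.CurveBddLib.Sectional
import Groth.Agent.CurveBddLib.QuotCond

/-!
# Semistability of modules of dimension one in terms of multiplicity and Euler characteristic
-/

set_option autoImplicit false
set_option backward.isDefEq.respectTransparency false
set_option linter.style.haveILetI false
set_option linter.unusedSectionVars false

universe u

open CategoryTheory CategoryTheory.Limits AlgebraicGeometry Polynomial StabCat

noncomputable section

namespace Groth.Agent.TFCurvSSLib

variable (k : Type u) [Field k] {X : Scheme.{u}} [X.Over (Spec (CommRingCat.of k))]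
  [IsProper (X ↘ Spec (CommRingCat.of k))] (hdim : topologicalKrullDim X = 1) {L : X.Modules}
  (hL : CohB1.IsAmple L)

/-- The linear polynomial attached to a coherent module. -/
def lin (L E : X.Modules) : ℚ[X] :=
  C (DecSh.mult k X L E : ℚ) * Polynomial.X + C (Curv2.euler k X E : ℚ)

include hdim hL in
theorem isHilbPoly_lin {E : X.Modules} (hE : Coh.IsCoh E) : ShStab.IsHilbPoly k X L E (lin k L E) := fun m => by
  rw [lin, eval_add, eval_mul, eval_C, eval_X, eval_C]
  exact CurveBddLib.euler_twistL hdim hL hE m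

include hdim hL in
theorem eq_lin {E : X.Modules} (hE : Coh.IsCoh E) {P : ℚ[X]} (hP : ShStab.IsHilbPoly k X L E P) :
    P = lin k L E := by
  refine Polynomial.eq_of_infinite_eval_eq _ _ (Set.infinite_of_injective_forall_mem
    (f := fun m : ℕ => (m : ℚ)) Nat.cast_injective fun m => ?_)
  show P.eval (m : ℚ) = (lin k L E).eval (m : ℚ)
  rw [← hP m, isHilbPoly_lin k hdim hL hE m]

theorem alpha_lin (E : X.Modules) : alpha 1 (lin k L E) = (DecSh.mult k X L E : ℚ) := by
  rw [alpha, lin, coeff_add, coeff_C_mul, coeff_X_one, coeff_C_ne_zero one_ne_zero]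
  simp

theorem eval_lin (E : X.Modules) (x : ℚ) :
    (lin k L E).eval x = (DecSh.mult k X L E : ℚ) * x + (Curv2.euler k X E : ℚ) := by
  rw [lin, eval_add, eval_mul, eval_C, eval_X, eval_C]

theorem redLE_lin (F E : X.Modules) : RedLE 1 (lin k L F) (lin k L E) ↔
    DecSh.mult k X L E * Curv2.euler k X F ≤ DecSh.mult k X L F * Curv2.euler k X E := by
  simp only [RedLE, PolyLE, alpha_lin, eval_smul, eval_lin, smul_eq_mul]
  constructor
  · rintro ⟨N, hN⟩
    have h := hN N le_rfl
    have h' : ((DecSh.mult k X L E * Curv2.euler k X F : ℤ) : ℚ) ≤ (DecSh.mult k X L F * Curv2.euler k X E : ℤ) := by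
      push_cast; linarith
    exact_mod_cast h'
  · intro h
    refine ⟨0, fun m _ => ?_⟩
    have h' : ((DecSh.mult k X L E * Curv2.euler k X F : ℤ) : ℚ) ≤ (DecSh.mult k X L F * Curv2.euler k X E : ℤ) := by
      exact_mod_cast h
    push_cast at h'; linarith

theorem redLT_lin (F E : X.Modules) : RedLT 1 (lin k L F) (lin k L E) ↔
    DecSh.mult k X L E * Curv2.euler k X F < DecSh.mult k X L F * Curv2.euler k X E := by
  simp only [RedLT, PolyLT, alpha_lin, eval_smul, eval_lin, smul_eq_mul]
  constructor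
  · rintro ⟨N, hN⟩
    have h := hN N le_rfl
    have h' : ((DecSh.mult k X L E * Curv2.euler k X F : ℤ) : ℚ) < (DecSh.mult k X L F * Curv2.euler k X E : ℤ) := by
      push_cast; linarith
    exact_mod_cast h'
  · intro h
    refine ⟨0, fun m _ => ?_⟩
    have h' : ((DecSh.mult k X L E * Curv2.euler k X F : ℤ) : ℚ) < (DecSh.mult k X L F * Curv2.euler k X E : ℤ) := by
      exact_mod_cast h
    push_cast at h'; linarith

/-- Semistability in numbers. -/
def SSNum (L E : X.Modules) (r : ℤ → ℤ → Prop) : Prop :=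
  ∀ (F : X.Modules) (ι : F ⟶ E), Mono ι → Coh.IsCoh F → ¬ IsZero F → ¬ IsIso ι →
    r (DecSh.mult k X L E * Curv2.euler k X F) (DecSh.mult k X L F * Curv2.euler k X E)

include hdim hL in
theorem isSS_iff {E : X.Modules} (hE : Coh.IsCoh E) :
    StabCat.IsSS Coh.IsCoh (ShStab.IsHilbPoly k X L) 1 E ↔ SSNum k L E (· ≤ ·) := by
  refine ⟨fun h F ι hι hF h0 hi => (redLE_lin k F E).1 (h F ι hι hF h0 hi _ _ (isHilbPoly_lin k hdim hL hF)
    (isHilbPoly_lin k hdim hL hE)), fun h F ι hι hF h0 hi pF pE hpF hpE => ?_⟩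
  rw [eq_lin k hdim hL hF hpF, eq_lin k hdim hL hE hpE]
  exact (redLE_lin k F E).2 (h F ι hι hF h0 hi)

include hdim hL in
theorem isSt_iff {E : X.Modules} (hE : Coh.IsCoh E) :
    StabCat.IsSt Coh.IsCoh (ShStab.IsHilbPoly k X L) 1 E ↔ SSNum k L E (· < ·) := by
  refine ⟨fun h F ι hι hF h0 hi => (redLT_lin k F E).1 (h F ι hι hF h0 hi _ _ (isHilbPoly_lin k hdim hL hF)
    (isHilbPoly_lin k hdim hL hE)), fun h F ι hι hF h0 hi pF pE hpF hpE => ?_⟩
  rw [eq_lin k hdim hL hF hpF, eq_lin k hdim hL hE hpE]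
  exact (redLT_lin k F E).2 (h F ι hι hF h0 hi)

include hdim hL in
/-- A proper submodule of full multiplicity has smaller Euler characteristic. -/
theorem euler_lt_of_mult_eq {F E : X.Modules} (ι : F ⟶ E) [Mono ι] (hF : Coh.IsCoh F) (hE : Coh.IsCoh E)
    (hι : ¬ IsIso ι) (hm : DecSh.mult k X L F = DecSh.mult k X L E) :
    Curv2.euler k X F < Curv2.euler k X E := by
  obtain ⟨hQ, h1, h2⟩ := CurveBddLib.coker_facts k hdim hL ι hF hE
  have h0 : ¬ IsZero (cokernel ι) := fun h => hι (by
    haveI : Epi ι := Preadditive.epi_of_isZero_cokernel ι h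
    exact isIso_of_mono_of_epi ι)
  have := CurveBddLib.euler_pos_of_mult_zero k hdim hL hQ h0 (by omega)
  omega

end Groth.Agent.TFCurvSSLib
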